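import Groth.Agent.GrpSchLib.HomFibre
import Groth.Agent.MultDefLib.Transp
import Groth.Agent.S8395

/-!
# The power map is étale at central points
-/

universe u

open CategoryTheory CategoryTheory.Limits MonoidalCategory CartesianMonoidalCategory MonObj GrpObj AlgebraicGeometry

set_option linter.style.haveILetI false

noncomputable section

namespace Groth.Agent.CentLift19

open GrpSchLib GrpSchLib.Loci
open DSPtsLib (theta theta_left theta_comp theta_mul theta_bijective)
open MultDefLib (theta_surjective)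

variable {S : Scheme.{u}} {X G : Over S} [GrpObj G]

/-- A family of central points. -/
def Cen (a : X ⟶ G) : Prop := ∀ (T : Over S) (t : T ⟶ X) (g : T ⟶ G), (t ≫ a) * g = g * (t ≫ a)

theorem Cen.comp {a : X ⟶ G} (h : Cen a) {Y : Over S} (y : Y ⟶ X) : Cen (y ≫ a) := fun T t g => by
  rw [← Category.assoc]
  exact h T _ g

theorem cen_one : Cen (1 : X ⟶ G) := fun T t g => by rw [MonObj.comp_one, _root_.one_mul, _root_.mul_one]

variable (G) in
/-- The open set where the power map is étale. -/
def etLoc (n : ℕ) : G.left.Opens := ⟨loc @Etale (𝟙 G ^ n : G ⟶ G).left, isOpen_loc _ _⟩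

/-- The étale locus of a morphism of finite presentation descends along flat changes of base. -/
theorem loc_etale_down {A' A B' B : Scheme.{u}} {v : A' ⟶ A} {d' : A' ⟶ B'} {d : A ⟶ B} {q : B' ⟶ B}
    (h : IsPullback v d' d q) [LocallyOfFinitePresentation d] [Flat q] {x : A'} (hx : x ∈ loc @Etale d') :
    v x ∈ loc @Etale d := by
  haveI : LocallyOfFinitePresentation d' := MorphismProperty.of_isPullback (P := @LocallyOfFinitePresentation) h ‹_›
  rw [etale_loc_eq] at hx ⊢
  obtain ⟨h1, U, hxU, hU, -⟩ := hx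
  refine ⟨?_, ?_⟩
  · rw [HomFibre.mem_loc_smooth_iff] at h1 ⊢
    rwa [S2155.result d q d' v h (.inr ‹_›)] at h1
  · have h2 : MorLib.UnrLocus.Loc d' x := ⟨U, hxU, hU⟩
    rw [← h.isoPullback_hom_snd, MorLib.UnrLocus.loc_comp_left, MorLib.UnrLocus.loc_pullback,
      ← Scheme.Hom.comp_apply, h.isoPullback_hom_fst] at h2
    obtain ⟨W, hW, hu⟩ := h2
    exact ⟨W, hW, hu, MorphismProperty.comp_mem @LocallyOfFinitePresentation _ _ inferInstance ‹_›⟩

theorem map_pow {S' : Scheme.{u}} (f : S' ⟶ S) (n : ℕ) :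
    (Over.pullback f).map (𝟙 G ^ n) = (𝟙 (Red.bc f G) ^ n : Red.bc f G ⟶ Red.bc f G) := by
  induction n with
  | zero =>
    rw [pow_zero, pow_zero]
    exact Functor.map_one (Over.pullback f)
  | succ n ih =>
    rw [pow_succ, pow_succ, ← ih]
    exact (Functor.map_mul (Over.pullback f) _ _).trans
      (congrArg (_ * ·) (CategoryTheory.Functor.map_id (Over.pullback f) G))

variable [Flat G.hom] [LocallyOfFinitePresentation G.hom]

/-- The power map is étale at central points of order prime to the residue characteristic. -/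
theorem mem_etLoc {n : ℕ} {a : X ⟶ G} (ha : Cen a) (x : X.left) (hn : (n : X.left.residueField x) ≠ 0) :
    a.left x ∈ etLoc G n := by
  let s : S := X.hom x
  let fs := S.fromSpecResidueField s
  let G₁ : Over (Spec (S.residueField s)) := Red.bc fs G
  let σ : Spec (X.left.residueField x) ⟶ Spec (S.residueField s) := Spec.map (X.hom.residueFieldMap x)
  have hfac : σ ≫ fs = X.left.fromSpecResidueField x ≫ X.hom :=
    Scheme.Hom.SpecMap_residueFieldMap_fromSpecResidueField X.hom x
  let GK : Over (Spec (X.left.residueField x)) := Red.bc σ G₁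
  let p : (Over.map fs).obj ((Over.map σ).obj (𝟙_ (Over (Spec (X.left.residueField x))))) ⟶ X :=
    Over.homMk (X.left.fromSpecResidueField x) (by
      show X.left.fromSpecResidueField x ≫ X.hom = (𝟙 _ ≫ σ) ≫ fs
      rw [Category.id_comp, hfac])
  obtain ⟨g₁, hg₁⟩ := theta_surjective fs (p ≫ a)
  obtain ⟨gK, hgK⟩ := theta_surjective σ g₁
  have hcen : ∀ (T : Over (Spec (X.left.residueField x))) (h : T ⟶ GK),
      (toUnit T ≫ gK) * h = h * (toUnit T ≫ gK) := fun T h => by
    apply (theta_bijective σ).1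
    apply (theta_bijective fs).1
    rw [theta_mul, theta_mul, theta_mul, theta_mul, theta_comp, hgK, theta_comp, hg₁, ← Category.assoc]
    exact ha _ _ _
  haveI : LocallyOfFiniteType G₁.hom := inferInstanceAs (LocallyOfFiniteType (pullback.snd G.hom fs))
  haveI : LocallyOfFiniteType GK.hom := inferInstanceAs (LocallyOfFiniteType (pullback.snd G₁.hom σ))
  obtain ⟨U, hU, hUet⟩ := Groth.Agent.S8395.result (X.left.residueField x) GK n hn gK hcen
  let pt : Spec (X.left.residueField x) := IsLocalRing.closedPoint (X.left.residueField x)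
  have hz : gK.left pt ∈ loc @Etale (𝟙 GK ^ n : GK ⟶ GK).left := ⟨U, hU ⟨pt, rfl⟩, hUet⟩
  rw [← map_pow] at hz
  haveI : Flat σ := by
    rw [HasRingHomProperty.Spec_iff (P := @Flat)]
    exact RingHom.Flat.of_isField (Field.toIsField _) _
  haveI hlfp : LocallyOfFinitePresentation ((Over.pullback fs).map (𝟙 G ^ n)).left := by
    haveI := HomFibre.lfp_of_flat_lfp (𝟙 G ^ n : G ⟶ G)
    exact HomFibre.fib_lfp (𝟙 G ^ n) fs
  haveI : LocallyOfFinitePresentation (𝟙 G₁ ^ n : G₁ ⟶ G₁).left := by rw [← map_pow]; exact hlfp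
  have h1 := loc_etale_down (HomFibre.map_isPullback (𝟙 G₁ ^ n : G₁ ⟶ G₁) σ) hz
  rw [← map_pow] at h1
  have h2 := (HomFibre.etale_iff (𝟙 G ^ n : G ⟶ G) s _).1 h1
  have e : HomFibre.incl G s (pullback.fst G₁.hom σ (gK.left pt)) = a.left x := by
    have e2 : ((gK.left ≫ pullback.fst G₁.hom σ) ≫ pullback.fst G.hom fs) =
        X.left.fromSpecResidueField x ≫ a.left := by
      rw [← theta_left σ gK, hgK, ← theta_left fs g₁, hg₁]
      rfl
    have e3 := congrArg (fun m : Spec (X.left.residueField x) ⟶ G.left => m pt) e2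
    simp only [Scheme.Hom.comp_apply, Scheme.fromSpecResidueField_apply] at e3
    exact e3
  exact e ▸ h2

end Groth.Agent.CentLift19

end
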