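import Groth.Agent.GrpSchLib.FibreIrr
import Groth.Agent.GrpSchLib.Shear
import Groth.Agent.FpqcDescLib.Basic
import Groth.Agent.AlgSpPts.Sep
import Groth.Agent.MultDefLib.CoverGlue
import Mathlib.AlgebraicGeometry.Sites.Fpqc
import Mathlib.AlgebraicGeometry.Geometrically.Irreducible

/-!
# An open subscheme meeting every fibre generates a group with connected fibres
-/

universe u

open CategoryTheory Limits AlgebraicGeometry MonoidalCategory CartesianMonoidalCategory MonObj GrpObj

namespace Groth.Agent.CentLift19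

open GrpSchLib

variable {S : Scheme.{u}} {G : Over S} [GrpObj G] [Flat G.hom] [LocallyOfFinitePresentation G.hom]

theorem geometricallyIrreducible_of_connected (hconn : ∀ s : S, _root_.IsConnected (G.hom ⁻¹' {s})) :
    GeometricallyIrreducible G.hom :=
  (GeometricallyIrreducible.iff_geometricallyIrreducible_fiber _).mpr fun s =>
    (FibreIrr.geometricallyIrreducible_fib G s (hconn s)).1

/-- Two morphisms agreeing on products of points of an open meeting all fibres agree. -/
theorem covers_mul_base [GeometricallyIrreducible G.hom]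
    (V : G.left.Opens) (hV : ∀ s : S, ∃ v ∈ V, G.hom v = s) :
    let jV : Over.mk (V.ι ≫ G.hom) ⟶ G := Over.homMk V.ι rfl
    FpqcDescLib.Covers ((jV ⊗ₘ jV) ≫ μ[G]).left := by
  intro jV
  have e : (jV ⊗ₘ jV).left = pullback.map (Over.mk (V.ι ≫ G.hom)).hom (Over.mk (V.ι ≫ G.hom)).hom G.hom G.hom jV.left
      jV.left (𝟙 _) (by simp [jV]) (by simp [jV]) := by
    apply pullback.hom_ext
    · rw [pullback.lift_fst]
      exact congrArg (fun r : _ ⟶ G => r.left) (tensorHom_fst jV jV)
    · rw [pullback.lift_snd]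
      exact congrArg (fun r : _ ⟶ G => r.left) (tensorHom_snd jV jV)
  haveI : IsOpenImmersion jV.left := inferInstanceAs (IsOpenImmersion V.ι)
  haveI : Surjective ((jV ⊗ₘ jV) ≫ μ[G]).left := by
    constructor
    intro y
    let L := G.left.residueField y
    let T : Over S := Over.mk (G.left.fromSpecResidueField y ≫ G.hom)
    let y' : T ⟶ G := Over.homMk (G.left.fromSpecResidueField y) rfl
    let pr : G ⊗ T ⟶ G := fst G T
    let θ : G ⊗ T ⟶ G ⊗ T := lift ((fst G T)⁻¹ * (snd G T ≫ y')) (snd G T)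
    let θ' : G ⊗ T ⟶ G ⊗ T := lift ((snd G T ≫ y') * (fst G T)⁻¹) (snd G T)
    have hθ : θ' ≫ θ = 𝟙 _ := by
      apply CartesianMonoidalCategory.hom_ext
      · simp only [θ, θ', Category.assoc, lift_fst, MonObj.comp_mul, GrpObj.comp_inv, lift_snd_assoc, Category.id_comp]
        group
      · simp [θ, θ']
    haveI : Surjective θ.left := ⟨fun p => ⟨θ'.left p, by
      rw [← Scheme.Hom.comp_apply, ← Over.comp_left, hθ]; rfl⟩⟩
    haveI : Subsingleton ↥T.left := inferInstanceAs (Subsingleton (PrimeSpectrum L))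
    haveI : Nonempty ↥T.left := ⟨IsLocalRing.closedPoint L⟩
    haveI : IrreducibleSpace (G ⊗ T).left :=
      GeometricallyIrreducible.irreducibleSpace_of_subsingleton (pullback.snd G.hom T.hom)
    have hne : (pr.left ⁻¹' Set.range jV.left).Nonempty := by
      obtain ⟨v, hv, hvs⟩ := hV (G.hom y)
      obtain ⟨p, hp, -⟩ := Scheme.Pullback.exists_preimage_pullback (f := G.hom) (g := T.hom) v
        (IsLocalRing.closedPoint L) (by
          show G.hom v = (G.left.fromSpecResidueField y ≫ G.hom) _
          rw [Scheme.Hom.comp_apply, Scheme.fromSpecResidueField_apply, hvs])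
      refine ⟨p, ?_⟩
      show (pullback.fst G.hom T.hom) p ∈ Set.range V.ι
      rw [Scheme.Opens.range_ι, hp]
      exact hv
    have hne' : ((θ ≫ pr).left ⁻¹' Set.range jV.left).Nonempty := by
      obtain ⟨p, hp⟩ := hne
      obtain ⟨p', rfl⟩ := θ.left.surjective p
      exact ⟨p', hp⟩
    have ho := jV.left.isOpenEmbedding.isOpen_range
    obtain ⟨p, hp1, hp2⟩ := nonempty_preirreducible_inter (ho.preimage pr.left.continuous)
      (ho.preimage (θ ≫ pr).left.continuous) hne hne'
    let m : G ⊗ T ⟶ G ⊗ G := lift pr (θ ≫ pr)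
    have hm : m ≫ μ[G] = snd G T ≫ y' := by
      show lift pr (θ ≫ pr) ≫ μ[G] = _
      rw [← Hom.mul_def]
      simp only [θ, pr, lift_fst, mul_inv_cancel_left]
    have hmem : m.left p ∈ Set.range (jV ⊗ₘ jV).left := by
      rw [e, Scheme.Pullback.range_map]
      constructor
      · rw [Set.mem_preimage, ← Scheme.Hom.comp_apply, show m.left ≫ pullback.fst G.hom G.hom = pr.left from
          congrArg (fun r : _ ⟶ G => r.left) (lift_fst pr (θ ≫ pr))]
        exact hp1
      · rw [Set.mem_preimage, ← Scheme.Hom.comp_apply, show m.left ≫ pullback.snd G.hom G.hom = (θ ≫ pr).left from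
          congrArg (fun r : _ ⟶ G => r.left) (lift_snd pr (θ ≫ pr))]
        exact hp2
    obtain ⟨z, hz⟩ := hmem
    refine ⟨z, ?_⟩
    rw [Over.comp_left, Scheme.Hom.comp_apply, hz, ← Scheme.Hom.comp_apply, ← Over.comp_left, hm, Over.comp_left,
      Scheme.Hom.comp_apply]
    exact (congrArg (G.left.fromSpecResidueField y) (Subsingleton.elim _ _)).trans
      (G.left.fromSpecResidueField_apply y (IsLocalRing.closedPoint L))
  haveI : Flat ((jV ⊗ₘ jV) ≫ μ[G]).left := by
    haveI : Flat μ[G].left := by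
      rw [mul_eq_id_whiskerRight]
      exact flat_whiskerRight_mul (𝟙 G)
    haveI : IsOpenImmersion (jV ⊗ₘ jV).left := by rw [e]; infer_instance
    show Flat ((jV ⊗ₘ jV).left ≫ μ[G].left)
    infer_instance
  haveI : LocallyOfFinitePresentation ((jV ⊗ₘ jV) ≫ μ[G]).left := by
    haveI : LocallyOfFinitePresentation (((jV ⊗ₘ jV) ≫ μ[G]).left ≫ G.hom) := by
      rw [Over.w]
      show LocallyOfFinitePresentation (pullback.fst _ _ ≫ (Over.mk (V.ι ≫ G.hom)).hom)
      haveI : LocallyOfFinitePresentation (Over.mk (V.ι ≫ G.hom)).hom :=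
        inferInstanceAs (LocallyOfFinitePresentation (V.ι ≫ G.hom))
      infer_instance
    exact AlgSpPts.locallyOfFinitePresentation_of_comp _ G.hom
  exact FpqcDescLib.covers_of_isCovering
    (Scheme.fppfPrecoverage_le_fpqcPrecoverage _ (Scheme.Hom.singleton_mem_fppfPrecoverage _))

/-- Morphisms agreeing on products of points of an open meeting all fibres agree. -/
theorem commute_of_open [GeometricallyIrreducible G.hom]
    (V : G.left.Opens) (hV : ∀ s : S, ∃ v ∈ V, G.hom v = s) {M : Over S} (u : M ⟶ G)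
    (h : ∀ (X : Over S) (x : X ⟶ M) (g : X ⟶ G), Set.range g.left.base ⊆ (V : Set G.left) →
      (x ≫ u) * g = g * (x ≫ u)) :
    ∀ (X : Over S) (x : X ⟶ M) (g : X ⟶ G), (x ≫ u) * g = g * (x ≫ u) := by
  intro X x g
  let jV : Over.mk (V.ι ≫ G.hom) ⟶ G := Over.homMk V.ι rfl
  let c := (jV ⊗ₘ jV) ≫ μ[G]
  let P : Over S := Over.mk (pullback.fst g.left c.left ≫ X.hom)
  let p : P ⟶ X := Over.homMk (pullback.fst g.left c.left) rfl
  let t : P ⟶ Over.mk (V.ι ≫ G.hom) ⊗ Over.mk (V.ι ≫ G.hom) := Over.homMk (pullback.snd g.left c.left) (by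
    show _ = pullback.fst g.left c.left ≫ X.hom
    rw [← Over.w c, ← pullback.condition_assoc, Over.w g])
  have hp : FpqcDescLib.Covers p.left := (covers_mul_base V hV).pullback g.left p.left (pullback.snd g.left c.left)
    (IsPullback.of_hasPullback g.left c.left)
  haveI := hp.over_epi
  have hw : p ≫ g = t ≫ c := Over.OverMorphism.ext pullback.condition
  have hr : ∀ {Y : Over S} (y : Y ⟶ Over.mk (V.ι ≫ G.hom)), Set.range (y ≫ jV).left.base ⊆ (V : Set G.left) := by
    intro Y y
    rintro _ ⟨z, rfl⟩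
    exact (y.left z).2
  have h1 : p ≫ g = ((t ≫ fst _ _) ≫ jV) * ((t ≫ snd _ _) ≫ jV) := by
    rw [hw, Hom.mul_def]
    simp only [c, ← Category.assoc]
    congr 1
    apply CartesianMonoidalCategory.hom_ext <;> simp
  rw [← cancel_epi p, MonObj.comp_mul, MonObj.comp_mul, ← Category.assoc, h1]
  rw [← _root_.mul_assoc, h _ _ _ (hr _), _root_.mul_assoc, h _ _ _ (hr _), ← _root_.mul_assoc]

end Groth.Agent.CentLift19
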