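import Groth.Agent.CentLift19.Main
import Groth.Agent.CentLift19.MulCover
import Groth.Agent.S8385

/-!
# Central homomorphisms out of finite étale groups of multiplicative type over complete local rings
-/

universe u

open CategoryTheory CategoryTheory.Limits MonoidalCategory CartesianMonoidalCategory MonObj GrpObj AlgebraicGeometry

set_option linter.style.haveILetI false

noncomputable section

namespace Groth.Agent.CentLift19

open DSPtsLib (theta theta_bijective)

variable {S : Scheme.{u}} {T P G : Over S} [GrpObj G]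

theorem mono_torsι (n : ℕ) : Mono (torsι G n) := by
  refine ⟨fun {Z} p q hpq => Over.OverMorphism.ext (pullback.hom_ext ?_ ?_)⟩
  · have h1 : (p.left ≫ pullback.fst _ _) ≫ (etLoc G n).ι = (q.left ≫ pullback.fst _ _) ≫ (etLoc G n).ι := by
      rw [Category.assoc, Category.assoc]
      exact congrArg CommaMorphism.left hpq
    exact (cancel_mono _).1 h1
  · exact (Over.w p).trans (Over.w q).symm

theorem factor_piece (e : P ⟶ T) (W : T.left.Opens) (h : ∀ y, e.left y ∈ W) :
    ∃ l : P ⟶ piece T W, l ≫ pieceι T W = e := by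
  have hr : Set.range e.left.base ⊆ Set.range W.ι.base := by
    rw [Scheme.Opens.range_ι]
    rintro _ ⟨y, rfl⟩
    exact h y
  refine ⟨Over.homMk (IsOpenImmersion.lift W.ι e.left hr) ?_, Over.OverMorphism.ext (IsOpenImmersion.lift_fac _ _ _)⟩
  show _ ≫ W.ι ≫ T.hom = _
  rw [← Category.assoc, IsOpenImmersion.lift_fac, Over.w e]

variable [Flat G.hom] [LocallyOfFinitePresentation G.hom]

/-- Two torsion points agree on an open containing the places where they are central and equal. -/
theorem exists_eq_open {n : ℕ} (e : P ⟶ T) {a b : T ⟶ G} (ha : a ^ n = 1) (hb : b ^ n = 1) (h : e ≫ a = e ≫ b)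
    (hV : ∀ y, (e ≫ a).left y ∈ etLoc G n) :
    ∃ W : T.left.Opens, (∀ y, e.left y ∈ W) ∧ pieceι T W ≫ a = pieceι T W ≫ b := by
  let W₁ : T.left.Opens := a.left ⁻¹ᵁ etLoc G n ⊓ b.left ⁻¹ᵁ etLoc G n
  have hW₁ : ∀ y, e.left y ∈ W₁ := fun y => by
    have h1 := hV y
    have h2 := hV y
    rw [Over.comp_left, Scheme.Hom.comp_apply] at h1
    rw [h, Over.comp_left, Scheme.Hom.comp_apply] at h2
    exact ⟨h1, h2⟩
  obtain ⟨a', ha'⟩ := exists_torsEt (pieceι T W₁ ≫ a) (by rw [← MonObj.comp_pow, ha, MonObj.comp_one]) fun x => by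
    rw [Over.comp_left, Scheme.Hom.comp_apply]
    exact (show W₁.ι x ∈ W₁ from x.2).1
  obtain ⟨b', hb'⟩ := exists_torsEt (pieceι T W₁ ≫ b) (by rw [← MonObj.comp_pow, hb, MonObj.comp_one]) fun x => by
    rw [Over.comp_left, Scheme.Hom.comp_apply]
    exact (show W₁.ι x ∈ W₁ from x.2).2
  let c := pullback.lift a'.left b'.left ((Over.w a').trans (Over.w b').symm)
  let p := pullback.fst c (pullback.diagonal (torsEt G n).hom)
  haveI : IsOpenImmersion p := inferInstanceAs (IsOpenImmersion (pullback.fst c (pullback.diagonal (torsEt G n).hom)))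
  let j : pullback c (pullback.diagonal (torsEt G n).hom) ⟶ T.left := p ≫ W₁.ι
  haveI : IsOpenImmersion j := inferInstanceAs (IsOpenImmersion (p ≫ W₁.ι))
  obtain ⟨l, hl⟩ := factor_piece e W₁ hW₁
  refine ⟨j.opensRange, fun y => ?_, ?_⟩
  · haveI := mono_torsι (G := G) n
    have heq : l ≫ a' = l ≫ b' := by
      rw [← cancel_mono (torsι G n), Category.assoc, Category.assoc, ha', hb', ← Category.assoc, ← Category.assoc,
        hl, h]
    have hw : l.left ≫ c = (l ≫ a').left ≫ pullback.diagonal (torsEt G n).hom := by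
      apply pullback.hom_ext
      · rw [Category.assoc, Category.assoc, pullback.diagonal_fst, Category.comp_id]
        exact congrArg (l.left ≫ ·) (pullback.lift_fst _ _ _)
      · rw [Category.assoc, Category.assoc, pullback.diagonal_snd, Category.comp_id, heq]
        exact congrArg (l.left ≫ ·) (pullback.lift_snd _ _ _)
    refine ⟨pullback.lift l.left _ hw y, ?_⟩
    show (p ≫ W₁.ι) _ = e.left y
    rw [← Scheme.Hom.comp_apply, ← Category.assoc, pullback.lift_fst, ← hl]
    rfl
  · let Q : Over S := Over.mk (j ≫ T.hom)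
    let pm : Q ⟶ piece T W₁ := Over.homMk p (by
      show p ≫ W₁.ι ≫ T.hom = j ≫ T.hom
      simp only [j, Category.assoc])
    let z : piece T j.opensRange ⟶ Q := Over.homMk j.isoOpensRange.inv (by
      show _ ≫ j ≫ T.hom = j.opensRange.ι ≫ T.hom
      rw [Scheme.Hom.isoOpensRange_inv_comp_assoc])
    have hz : pieceι T j.opensRange = z ≫ pm ≫ pieceι T W₁ :=
      Over.OverMorphism.ext (Scheme.Hom.isoOpensRange_inv_comp j).symm
    have hpm : pm ≫ a' = pm ≫ b' := Over.OverMorphism.ext (by
      show p ≫ a'.left = p ≫ b'.left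
      have h1 := congrArg (· ≫ pullback.fst _ _) (pullback.condition (f := c) (g := pullback.diagonal (torsEt G n).hom))
      have h2 := congrArg (· ≫ pullback.snd _ _) (pullback.condition (f := c) (g := pullback.diagonal (torsEt G n).hom))
      simp only [c, Category.assoc, pullback.lift_fst, pullback.lift_snd, pullback.diagonal_fst,
        pullback.diagonal_snd] at h1 h2
      exact h1.trans h2.symm)
    rw [hz, Category.assoc, Category.assoc, Category.assoc, Category.assoc, ← ha', ← hb', ← Category.assoc pm,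
      hpm, Category.assoc]

variable {S₀ : Scheme.{u}} (q : S₀ ⟶ S)

/-- The closed fibres reach everything. -/
def Fills (T : Over S) : Prop :=
  ∀ W : T.left.Opens, (∀ x, T.hom x ∈ Set.range q.base → x ∈ W) → W = ⊤

theorem fills_of_isClosedMap (hq : ∀ Z : Set S, IsClosed Z → Z.Nonempty → (Z ∩ Set.range q.base).Nonempty)
    (hT : IsClosedMap T.hom.base) : Fills q T := by
  intro W hW
  by_contra hne
  have hnon : (T.hom.base '' (W : Set T.left)ᶜ).Nonempty := by
    rw [Set.image_nonempty, Set.nonempty_compl]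
    exact fun h => hne (TopologicalSpace.Opens.ext h)
  obtain ⟨s, ⟨x, hx, rfl⟩, hs⟩ := hq _ (hT _ W.2.isClosed_compl) hnon
  exact hx (hW x hs)

/-- The restriction of a scheme over the closed subscheme. -/
abbrev closedPart (T : Over S) : Over S := Over.mk (pullback.fst T.hom q ≫ T.hom)

/-- The inclusion of the restriction. -/
abbrev closedι (T : Over S) : closedPart q T ⟶ T := Over.homMk (pullback.fst T.hom q) rfl

theorem eq_of_fills (hT : Fills q T) {n : ℕ} {a b : T ⟶ G} (ha : a ^ n = 1) (hb : b ^ n = 1)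
    (hn : InvAt n (closedPart q T).left) (h : closedι q T ≫ a = closedι q T ≫ b)
    (hc : Cen (closedι q T ≫ a)) : a = b := by
  obtain ⟨W, hW, heq⟩ := exists_eq_open (closedι q T) ha hb h fun y => mem_etLoc hc y (hn y)
  have htop : W = ⊤ := hT W fun x hx => by
    have : x ∈ Set.range (pullback.fst T.hom q).base := by rw [Scheme.Pullback.range_fst]; exact hx
    obtain ⟨y, rfl⟩ := this
    exact hW y
  subst htop
  haveI : IsIso (⊤ : T.left.Opens).ι := T.left.topIso.isIso_hom
  exact Over.OverMorphism.ext ((cancel_epi (⊤ : T.left.Opens).ι).1 (congrArg CommaMorphism.left heq))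

theorem closedι_comp (x : T ⟶ P) : ∃ t : closedPart q T ⟶ restr₀ q P, closedι q T ≫ x = t ≫ inc₀ q P := by
  have hw : (pullback.fst T.hom q ≫ x.left) ≫ P.hom = pullback.snd T.hom q ≫ q := by
    rw [Category.assoc, Over.w x, pullback.condition]
  refine ⟨Over.homMk (pullback.lift (f := P.hom) (g := q) _ _ hw) ?_, Over.OverMorphism.ext ?_⟩
  · show pullback.lift _ _ hw ≫ pullback.snd P.hom q ≫ q = pullback.fst T.hom q ≫ T.hom
    rw [pullback.lift_snd_assoc, pullback.condition]
  · show pullback.fst T.hom q ≫ x.left = pullback.lift _ _ hw ≫ 𝟙 _ ≫ pullback.fst P.hom q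
    erw [Category.id_comp, pullback.lift_fst]

variable {M : Over S} [GrpObj M] (u₀ : Red.bc q M ⟶ Red.bc q G) [IsMonHom u₀] [Mono q]

omit [Flat G.hom] [LocallyOfFinitePresentation G.hom] in
/-- The part of a scheme sent to the unit by a morphism. -/
theorem unitPart_comp {X : Over S} (f : X ⟶ G) :
    (Over.homMk (pullback.fst f.left η[G].left) rfl :
      Over.mk (pullback.fst f.left η[G].left ≫ X.hom) ⟶ X) ≫ f = 1 := by
  refine Over.OverMorphism.ext ?_
  rw [one_left]
  refine (pullback.condition (f := f.left) (g := η[G].left)).trans (congrArg (· ≫ η[G].left) ?_)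
  show pullback.snd f.left η[G].left = pullback.fst f.left η[G].left ≫ X.hom
  rw [← Over.w f, ← Category.assoc, pullback.condition, Category.assoc, Over.w η[G]]
  exact (Category.comp_id _).symm

theorem pow_comp_eq {X Y : Over S} {n : ℕ} {u : Y ⟶ G} (hu : u ^ n = 1) (x : X ⟶ Y) : (x ≫ u) ^ n = 1 := by
  rw [← MonObj.comp_pow, hu, MonObj.comp_one]

theorem etLoc_of_extension [UniversallyClosed M.hom] {n : ℕ}
    (hq : ∀ Z : Set S, IsClosed Z → Z.Nonempty → (Z ∩ Set.range q.base).Nonempty)
    (hn : ∀ T : Over S, InvAt n T.left)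
    (hc : Cen (theta q u₀)) (u : M ⟶ G) (he : inc₀ q M ≫ u = theta q u₀) :
    ∀ x : M.left, u.left x ∈ etLoc G n := by
  have hM : Fills q M := fills_of_isClosedMap q hq M.hom.isClosedMap
  have htop : u.left ⁻¹ᵁ etLoc G n = ⊤ := hM _ fun x hx => by
    have : x ∈ Set.range (pullback.fst M.hom q).base := by rw [Scheme.Pullback.range_fst]; exact hx
    obtain ⟨y, rfl⟩ := this
    obtain ⟨t, ht⟩ := closedι_comp q (𝟙 M)
    rw [Category.comp_id] at ht
    show u.left ((closedι q M).left y) ∈ etLoc G n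
    rw [← Scheme.Hom.comp_apply, ← Over.comp_left, ht, Category.assoc, he]
    exact mem_etLoc (X := closedPart q M) (hc.comp t) y (hn (closedPart q M) y)
  intro x
  show x ∈ u.left ⁻¹ᵁ etLoc G n
  rw [htop]
  trivial

theorem mul_of_extension [UniversallyClosed M.hom] {n : ℕ}
    (hq : ∀ Z : Set S, IsClosed Z → Z.Nonempty → (Z ∩ Set.range q.base).Nonempty)
    (hn : ∀ T : Over S, InvAt n T.left)
    (hc : Cen (theta q u₀)) (u : M ⟶ G) (hu : u ^ n = 1) (he : inc₀ q M ≫ u = theta q u₀) :
    IsMonHom u := by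
  have hMM : Fills q (M ⊗ M) := by
    refine fills_of_isClosedMap q hq ?_
    haveI : UniversallyClosed (M ⊗ M).hom := inferInstanceAs (UniversallyClosed (pullback.fst M.hom M.hom ≫ M.hom))
    exact (M ⊗ M).hom.isClosedMap
  obtain ⟨tx, htx⟩ := closedι_comp q (fst M M)
  obtain ⟨ty, hty⟩ := closedι_comp q (snd M M)
  obtain ⟨tm, htm⟩ := closedι_comp q μ[M]
  have hx : closedι q (M ⊗ M) ≫ fst M M ≫ u = tx ≫ theta q u₀ := by rw [← Category.assoc, htx, Category.assoc, he]
  have hy : closedι q (M ⊗ M) ≫ snd M M ≫ u = ty ≫ theta q u₀ := by rw [← Category.assoc, hty, Category.assoc, he]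
  have hm : closedι q (M ⊗ M) ≫ μ[M] ≫ u = tm ≫ theta q u₀ := by rw [← Category.assoc, htm, Category.assoc, he]
  have h3 : snd M M ≫ u = (fst M M ≫ u) * (snd M M ≫ u) * (fst M M ≫ u)⁻¹ := by
    refine eq_of_fills q hMM (pow_comp_eq hu _) ?_ (hn (closedPart q (M ⊗ M))) ?_ (hy ▸ hc.comp ty)
    · rw [conj_pow, pow_comp_eq hu, _root_.mul_one, mul_inv_cancel]
    · rw [MonObj.comp_mul, MonObj.comp_mul, GrpObj.comp_inv, hx, hy, eq_mul_inv_iff_mul_eq]
      exact hc _ ty _
  have hcomm : Commute (fst M M ≫ u) (snd M M ≫ u) := (eq_mul_inv_iff_mul_eq.1 h3).symm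
  have hmul : μ[M] ≫ u = (fst M M ≫ u) * (snd M M ≫ u) := by
    refine eq_of_fills q hMM (pow_comp_eq hu _) ?_ (hn (closedPart q (M ⊗ M))) ?_ (hm ▸ hc.comp tm)
    · rw [hcomm.mul_pow, pow_comp_eq hu, pow_comp_eq hu, _root_.mul_one]
    · rw [MonObj.comp_mul, hx, hy, hm]
      refine mul₀ q u₀ tm tx ty ?_
      rw [← htm, ← htx, ← hty, ← MonObj.comp_mul, Hom.mul_def, lift_fst_snd, Category.id_comp]
  exact MultLift19.isMonHom_of_mul u fun X a b => by
    rw [Hom.mul_def, Category.assoc, hmul, MonObj.comp_mul, lift_fst_assoc, lift_snd_assoc]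

theorem unique_of_extension [UniversallyClosed M.hom] {n : ℕ}
    (hq : ∀ Z : Set S, IsClosed Z → Z.Nonempty → (Z ∩ Set.range q.base).Nonempty)
    (hn : ∀ T : Over S, InvAt n T.left) (hkill : ∀ (T : Over S) (x : T ⟶ M), x ^ n = 1)
    (hc : Cen (theta q u₀)) (u : M ⟶ G) (hu : u ^ n = 1) (he : inc₀ q M ≫ u = theta q u₀)
    (u' : M ⟶ G) [IsMonHom u'] (he' : inc₀ q M ≫ u' = theta q u₀) : u' = u := by
  have hM : Fills q M := fills_of_isClosedMap q hq M.hom.isClosedMap
  obtain ⟨t, ht⟩ := closedι_comp q (𝟙 M)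
  rw [Category.comp_id] at ht
  refine eq_of_fills q hM ?_ hu (hn (closedPart q M)) ?_ ?_
  · rw [← Category.id_comp u', ← MonObj.pow_comp, hkill, MonObj.one_comp]
  · rw [ht, Category.assoc, Category.assoc, he', he]
  · rw [ht, Category.assoc, he']
    exact hc.comp t

theorem central_of_extension [UniversallyClosed M.hom] {n : ℕ}
    (hq : ∀ Z : Set S, IsClosed Z → Z.Nonempty → (Z ∩ Set.range q.base).Nonempty)
    (hn : ∀ T : Over S, InvAt n T.left)
    (hc : Cen (theta q u₀)) (u : M ⟶ G) (hu : u ^ n = 1) (he : inc₀ q M ≫ u = theta q u₀)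
    (hconn : ∀ s : S, _root_.IsConnected (G.hom.base ⁻¹' {s})) :
    ∀ (X : Over S) (x : X ⟶ M) (g : X ⟶ G), (x ≫ u) * g = g * (x ≫ u) := by
  -- the locus in `G ⊗ M` where conjugation fixes the homomorphism contains the unit section
  haveI := geometricallyIrreducible_of_connected hconn
  let a : G ⊗ M ⟶ G := snd G M ≫ u
  let c : G ⊗ M ⟶ G := fst G M * a * (fst G M)⁻¹
  let P : Over S := Over.mk (pullback.fst (fst G M).left η[G].left ≫ (G ⊗ M).hom)
  let e : P ⟶ G ⊗ M := Over.homMk (pullback.fst (fst G M).left η[G].left) rfl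
  have hfst : e ≫ fst G M = 1 := unitPart_comp (fst G M)
  have hea : e ≫ a = e ≫ c := by
    simp only [c, MonObj.comp_mul, GrpObj.comp_inv, hfst, _root_.one_mul, inv_one, _root_.mul_one]
  have huV := etLoc_of_extension q u₀ hq hn hc u he
  obtain ⟨W, hW, heq⟩ := exists_eq_open e (n := n) (a := a) (b := c) (pow_comp_eq hu _)
    (by rw [conj_pow, pow_comp_eq hu, _root_.mul_one, mul_inv_cancel]) hea fun y => by
      rw [← Category.assoc, Over.comp_left, Scheme.Hom.comp_apply]
      exact huV _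
  haveI : UniversallyClosed (fst G M).left := inferInstanceAs (UniversallyClosed (pullback.fst G.hom M.hom))
  let V : G.left.Opens := ⟨((fst G M).left.base '' (W : Set (G ⊗ M).left)ᶜ)ᶜ,
    ((fst G M).left.isClosedMap _ W.2.isClosed_compl).isOpen_compl⟩
  refine commute_of_open V (fun s => ⟨η[G].left s, ?_, ?_⟩) u fun X x g hg => ?_
  · rintro ⟨z, hz, hzs⟩
    refine hz ?_
    have : z ∈ Set.range (pullback.fst (fst G M).left η[G].left).base := by
      rw [Scheme.Pullback.range_fst]
      exact ⟨s, hzs.symm⟩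
    obtain ⟨y, rfl⟩ := this
    exact hW y
  · rw [← Scheme.Hom.comp_apply, Over.w η[G]]
    rfl
  · obtain ⟨l, hl⟩ := factor_piece (lift g x) W fun y => by
      by_contra hne
      refine hg ⟨y, rfl⟩ ⟨_, hne, ?_⟩
      rw [← Scheme.Hom.comp_apply, ← Over.comp_left, lift_fst]
    have h1 : lift g x ≫ a = lift g x ≫ c := by
      rw [← hl, Category.assoc, Category.assoc, heq]
    simp only [a, c, MonObj.comp_mul, GrpObj.comp_inv, lift_fst, lift_snd_assoc] at h1
    exact eq_mul_inv_iff_mul_eq.1 h1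

/-- A torsion extension of a central homomorphism is a homomorphism, unique, and central if the fibres are
connected. -/
theorem hom_of_extension [UniversallyClosed M.hom] {n : ℕ}
    (hq : ∀ Z : Set S, IsClosed Z → Z.Nonempty → (Z ∩ Set.range q.base).Nonempty)
    (hn : ∀ T : Over S, InvAt n T.left) (hkill : ∀ (T : Over S) (x : T ⟶ M), x ^ n = 1)
    (hc : Cen (theta q u₀)) (u : M ⟶ G) (hu : u ^ n = 1) (he : inc₀ q M ≫ u = theta q u₀) :
    IsMonHom u ∧ (Over.pullback q).map u = u₀ ∧
      (∀ u' : M ⟶ G, IsMonHom u' → (Over.pullback q).map u' = u₀ → u' = u) ∧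
      ((∀ s : S, _root_.IsConnected (G.hom.base ⁻¹' {s})) →
        ∀ (X : Over S) (x : X ⟶ M) (g : X ⟶ G), (x ≫ u) * g = g * (x ≫ u)) :=
  ⟨mul_of_extension q u₀ hq hn hc u hu he, (theta_bijective q).1 ((inc₀_comp q u).symm.trans he),
    fun u' hu' h' => haveI := hu'; unique_of_extension q u₀ hq hn hkill hc u hu he u'
      ((inc₀_comp q u').trans (congrArg (theta q) h')),
    central_of_extension q u₀ hq hn hc u hu he⟩

end Groth.Agent.CentLift19

end
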