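import Groth.Agent.CentLift19.Local
import Mathlib.AlgebraicGeometry.Noetherian

/-!
# Existence of central homomorphisms over complete local rings
-/

universe u

open CategoryTheory CategoryTheory.Limits MonoidalCategory CartesianMonoidalCategory MonObj GrpObj AlgebraicGeometry

set_option linter.style.haveILetI false

noncomputable section

namespace Groth.Agent.CentLift19

open DSPtsLib (theta theta_bijective)

section Level

variable {S S₀ : Scheme.{u}} (q : S₀ ⟶ S) [IsClosedImmersion q] {M E : Over S} (b₀ : restr₀ q M ⟶ E) [Etale E.hom]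

omit [IsClosedImmersion q] in
theorem surjective_closedι {X : Over S} (h : Set.range X.hom.base ⊆ Set.range q.base) :
    Surjective (closedι q X).left := ⟨fun x => by
  have : x ∈ Set.range (pullback.fst X.hom q).base := by
    rw [Scheme.Pullback.range_fst]
    exact h ⟨x, rfl⟩
  exact this⟩

theorem mono_inc₀ : Mono (inc₀ q M) := by
  haveI : Mono (inc₀ q M).left := by
    show Mono ((𝟙 (Red.bc q M) : _ ⟶ _).left ≫ pullback.fst M.hom q)
    exact inferInstance
  exact Over.mono_of_mono_left _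

/-- A thickening of part of the closed fibre carries a unique extension. -/
theorem exists_level {X : Over S} (h : Set.range X.hom.base ⊆ Set.range q.base) (x : X ⟶ M) :
    ∃ b : X ⟶ E,
      (∀ (T₀ : Over S) (e : T₀ ⟶ X) (t : T₀ ⟶ restr₀ q M), e ≫ x = t ≫ inc₀ q M → e ≫ b = t ≫ b₀) ∧
      ∀ b' : X ⟶ E, (∀ (T₀ : Over S) (e : T₀ ⟶ X) (t : T₀ ⟶ restr₀ q M), e ≫ x = t ≫ inc₀ q M → e ≫ b' = t ≫ b₀) →
        b' = b := by
  haveI := surjective_closedι q h
  haveI : IsClosedImmersion (closedι q X).left := inferInstanceAs (IsClosedImmersion (pullback.fst X.hom q))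
  obtain ⟨tX, htX⟩ := closedι_comp q x
  obtain ⟨b, hb⟩ := exists_lift (closedι q X) (tX ≫ b₀)
  refine ⟨b, fun T₀ e t het => ?_, fun b' hb' => eq_of_unramified (closedι q X) ((hb' _ _ tX htX).trans hb.symm)⟩
  have hw : e.left ≫ X.hom = (t.left ≫ pullback.snd M.hom q) ≫ q :=
    (Over.w e).trans ((Over.w t).symm.trans (Category.assoc _ _ _).symm)
  let l : T₀ ⟶ closedPart q X := Over.homMk (pullback.lift e.left _ hw) (by
    show _ ≫ pullback.fst X.hom q ≫ X.hom = _
    rw [pullback.lift_fst_assoc, Over.w e])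
  have hl : l ≫ closedι q X = e := Over.OverMorphism.ext (pullback.lift_fst _ _ _)
  haveI := mono_inc₀ q (M := M)
  have hlt : l ≫ tX = t := by
    rw [← cancel_mono (inc₀ q M), Category.assoc, ← htX, ← Category.assoc, hl, het]
  rw [← hl, Category.assoc, hb, ← Category.assoc, hlt]

end Level

variable (A : Type u) [CommRing A] [IsLocalRing A]

/-- The closed point. -/
abbrev closedPt : Spec (CommRingCat.of (A ⧸ IsLocalRing.maximalIdeal A)) ⟶ Spec (CommRingCat.of A) :=
  Spec.map (CommRingCat.ofHom (Ideal.Quotient.mk (IsLocalRing.maximalIdeal A)))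

theorem mem_range_closedPt : IsLocalRing.closedPoint A ∈ Set.range (closedPt A).base := by
  show IsLocalRing.closedPoint A ∈ Set.range (PrimeSpectrum.comap (Ideal.Quotient.mk (IsLocalRing.maximalIdeal A)))
  rw [range_comap_of_surjective _ _ Ideal.Quotient.mk_surjective, Ideal.mk_ker]
  exact le_refl (IsLocalRing.maximalIdeal A)

theorem meets_closedPt (Z : Set (Spec (CommRingCat.of A))) (hZ : IsClosed Z) (hne : Z.Nonempty) :
    (Z ∩ Set.range (closedPt A).base).Nonempty := by
  refine ⟨IsLocalRing.closedPoint A, ?_, mem_range_closedPt A⟩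
  by_contra hc
  obtain ⟨z, hz⟩ := hne
  have h := IsLocalRing.closed_point_mem_iff.1 (show IsLocalRing.closedPoint A ∈
    (⟨Zᶜ, hZ.isOpen_compl⟩ : TopologicalSpace.Opens (PrimeSpectrum A)) from hc)
  exact (show z ∈ (⟨Zᶜ, hZ.isOpen_compl⟩ : TopologicalSpace.Opens (PrimeSpectrum A)) from h ▸ trivial) hz

theorem range_closedPt_of_le {p : Spec (CommRingCat.of A)} (h : IsLocalRing.maximalIdeal A ≤ p.asIdeal) :
    p ∈ Set.range (closedPt A).base := by
  show p ∈ Set.range (PrimeSpectrum.comap (Ideal.Quotient.mk (IsLocalRing.maximalIdeal A)))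
  rw [range_comap_of_surjective _ _ Ideal.Quotient.mk_surjective, Ideal.mk_ker]
  exact h

variable [IsNoetherianRing A] [IsAdicComplete (IsLocalRing.maximalIdeal A) A]

/-- Morphisms from the closed part of a finite scheme to an étale scheme extend. -/
theorem exists_extend {M E : Over (Spec (CommRingCat.of A))} [IsFinite M.hom] [Etale E.hom]
    (b₀ : restr₀ (closedPt A) M ⟶ E) : ∃ b : M ⟶ E, inc₀ (closedPt A) M ≫ b = b₀ := by
  let q := closedPt A
  haveI : IsClosedImmersion q := IsClosedImmersion.spec_of_surjective _ Ideal.Quotient.mk_surjective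
  haveI : IsAffine M.left := isAffine_of_isAffineHom M.hom
  let B : Type u := Γ(M.left, ⊤)
  let φ : CommRingCat.of A ⟶ CommRingCat.of B := Spec.preimage (M.left.isoSpec.inv ≫ M.hom)
  have hφ : Spec.map φ = M.left.isoSpec.inv ≫ M.hom := Spec.map_preimage _
  letI : Algebra A B := φ.hom.toAlgebra
  haveI : Module.Finite A B := by
    have h : IsFinite (Spec.map φ) := by rw [hφ]; infer_instance
    exact (IsFinite.SpecMap_iff _).1 h
  have hMh : M.left.isoSpec.inv ≫ M.hom = Spec.map (CommRingCat.ofHom (algebraMap A B)) := hφ.symm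
  let 𝔪 := IsLocalRing.maximalIdeal A
  let J : ℕ → Ideal B := fun k => Ideal.map (algebraMap A B) (𝔪 ^ k)
  let X : ℕ → Over (Spec (CommRingCat.of A)) := fun k =>
    Over.mk (Spec.map (CommRingCat.ofHom ((Ideal.Quotient.mk (J k)).comp (algebraMap A B))))
  let ix : ∀ k, X k ⟶ M := fun k => Over.homMk (Spec.map (CommRingCat.ofHom (Ideal.Quotient.mk (J k))) ≫ M.left.isoSpec.inv) (by
    show _ = Spec.map _
    rw [Category.assoc, hMh, ← Spec.map_comp]
    rfl)
  have hrange : ∀ k, Set.range (X k).hom.base ⊆ Set.range q.base := by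
    intro k
    rintro _ ⟨z, rfl⟩
    refine range_closedPt_of_le A fun a ha => ?_
    show (Ideal.Quotient.mk (J k)) (algebraMap A B a) ∈ z.asIdeal
    refine z.isPrime.mem_of_pow_mem k ?_
    have : (Ideal.Quotient.mk (J k)) (algebraMap A B a) ^ k = 0 := by
      rw [← _root_.map_pow, ← _root_.map_pow, Ideal.Quotient.eq_zero_iff_mem]
      exact Ideal.mem_map_of_mem _ (Ideal.pow_mem_pow ha k)
    rw [this]
    exact z.asIdeal.zero_mem
  choose bk hbk hbu using fun k => exists_level q b₀ (hrange k) (ix k)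
  let tr : ∀ k, X k ⟶ X (k + 1) := fun k => Over.homMk (Spec.map (CommRingCat.ofHom (Ideal.Quotient.factor
      (Ideal.map_mono (f := algebraMap A B) (Ideal.pow_le_pow_right (I := 𝔪) (Nat.le_succ k)))))) (by
    show _ ≫ Spec.map _ = Spec.map _
    rw [← Spec.map_comp]
    rfl)
  have htr : ∀ k, tr k ≫ ix (k + 1) = ix k := fun k => Over.OverMorphism.ext (by
    show Spec.map _ ≫ Spec.map _ ≫ M.left.isoSpec.inv = Spec.map _ ≫ M.left.isoSpec.inv
    rw [← Category.assoc, ← Spec.map_comp]
    rfl)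
  have hcompat : ∀ k, tr k ≫ bk (k + 1) = bk k := fun k => hbu k _ fun T₀ e t het => by
    rw [← Category.assoc]
    exact hbk (k + 1) T₀ _ t (by rw [Category.assoc, htr, het])
  obtain ⟨g, hg, hgk⟩ := (Groth.Agent.S8385.result A B E).2 (fun k => (bk k).left) (fun k => Over.w (bk k))
    fun k => congrArg CommaMorphism.left (hcompat k)
  let b : M ⟶ E := Over.homMk (M.left.isoSpec.hom ≫ g) (by
    rw [Category.assoc, hg, ← hMh, Iso.hom_inv_id_assoc])
  have hb : ∀ k, ix k ≫ b = bk k := fun k => Over.OverMorphism.ext (by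
    show (_ ≫ M.left.isoSpec.inv) ≫ M.left.isoSpec.hom ≫ g = _
    rw [Category.assoc, Iso.inv_hom_id_assoc]
    exact hgk k)
  haveI := surjective_closedι q (hrange 1)
  obtain ⟨t₁, ht₁⟩ := closedι_comp q (ix 1)
  haveI : Surjective t₁.left := ⟨fun z => by
    let y : M.left := (inc₀ q M).left z
    have hy : M.hom y ∈ Set.range q.base := by
      refine ⟨(pullback.snd M.hom q) z, ?_⟩
      rw [← Scheme.Hom.comp_apply, ← pullback.condition, Scheme.Hom.comp_apply]
      show M.hom _ = M.hom (((𝟙 _ : restr₀ q M ⟶ _).left ≫ pullback.fst M.hom q) z)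
      erw [Category.id_comp]
    let p : Spec (CommRingCat.of B) := M.left.isoSpec.hom y
    have hp : J 1 ≤ p.asIdeal := by
      obtain ⟨w, hw⟩ := hy
      rw [Ideal.map_le_iff_le_comap, pow_one]
      have hpw : (Spec.map (CommRingCat.ofHom (algebraMap A B))) p = q w := by
        rw [← hMh, ← Scheme.Hom.comp_apply, Iso.hom_inv_id_assoc, hw]
      intro a ha
      show a ∈ ((Spec.map (CommRingCat.ofHom (algebraMap A B))) p).asIdeal
      rw [hpw]
      show Ideal.Quotient.mk 𝔪 a ∈ w.asIdeal
      rw [Ideal.Quotient.eq_zero_iff_mem.2 ha]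
      exact w.asIdeal.zero_mem
    have hpr : p ∈ Set.range (PrimeSpectrum.comap (Ideal.Quotient.mk (J 1))) := by
      rw [range_comap_of_surjective _ _ Ideal.Quotient.mk_surjective, Ideal.mk_ker]
      exact hp
    obtain ⟨v, hv⟩ := hpr
    obtain ⟨v', rfl⟩ := (closedι q (X 1)).left.surjective v
    refine ⟨v', ?_⟩
    have hi : Function.Injective (inc₀ q M).left.base := by
      haveI : IsClosedImmersion (inc₀ q M).left := by
        show IsClosedImmersion ((𝟙 (Red.bc q M) : _ ⟶ _).left ≫ pullback.fst M.hom q)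
        exact inferInstance
      exact (inc₀ q M).left.isClosedEmbedding.injective
    refine hi ?_
    show ((t₁ ≫ inc₀ q M).left) v' = y
    rw [← ht₁]
    show ((closedι q (X 1)).left ≫ Spec.map _ ≫ M.left.isoSpec.inv) v' = y
    rw [Scheme.Hom.comp_apply, Scheme.Hom.comp_apply]
    refine (congrArg M.left.isoSpec.inv hv).trans ?_
    rw [← Scheme.Hom.comp_apply, Iso.hom_inv_id]
    rfl⟩
  refine ⟨b, eq_of_unramified t₁ ?_⟩
  rw [← Category.assoc, ← ht₁, Category.assoc, hb]
  exact hbk 1 _ _ t₁ ht₁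

/-- Central homomorphisms out of finite étale groups of multiplicative type lift over complete local rings. -/
theorem exists_local_lift {M G : Over (Spec (CommRingCat.of A))} [GrpObj M] [GrpObj G] [IsFinite M.hom] [Smooth M.hom]
    (hM : SGA3x.IsMultTypeFT M) [Flat G.hom] [LocallyOfFinitePresentation G.hom]
    (u₀ : Red.bc (closedPt A) M ⟶ Red.bc (closedPt A) G) [IsMonHom u₀]
    (hc₀ : ∀ (X : Over _) (x : X ⟶ Red.bc (closedPt A) M) (g : X ⟶ Red.bc (closedPt A) G), (x ≫ u₀) * g = g * (x ≫ u₀)) :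
    ∃ u : M ⟶ G, IsMonHom u ∧ (Over.pullback (closedPt A)).map u = u₀ ∧
      (∀ u' : M ⟶ G, IsMonHom u' → (Over.pullback (closedPt A)).map u' = u₀ → u' = u) ∧
      ((∀ s : Spec (CommRingCat.of A), _root_.IsConnected (G.hom.base ⁻¹' {s})) →
        ∀ (X : Over _) (x : X ⟶ M) (g : X ⟶ G), (x ≫ u) * g = g * (x ≫ u)) := by
  let q := closedPt A
  haveI : IsClosedImmersion q := IsClosedImmersion.spec_of_surjective _ Ideal.Quotient.mk_surjective
  obtain ⟨D, n, hD, hinv, hkill⟩ := exists_order hM (IsLocalRing.closedPoint A)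
  have htop : D = ⊤ := IsLocalRing.closed_point_mem_iff.1 hD
  have hn : ∀ T : Over (Spec (CommRingCat.of A)), InvAt n T.left := fun T x hx =>
    hinv (T.hom x) (htop ▸ trivial) ((T.hom.residueFieldMap x).hom.injective (by rw [map_natCast, map_zero, hx]))
  have hk : ∀ (T : Over (Spec (CommRingCat.of A))) (x : T ⟶ M), x ^ n = 1 := fun T x =>
    hkill T x fun y _ => htop ▸ trivial
  have hca : Cen (theta q u₀) := cen₀ q u₀ hc₀
  obtain ⟨b₀, hb₀⟩ := exists_torsEt (theta q u₀) (by
      have h := pow₀ q u₀ (𝟙 (restr₀ q M)) (n := n) (hk _ _)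
      rwa [Category.id_comp] at h)
    fun x => mem_etLoc (X := restr₀ q M) hca x (hn (restr₀ q M) x)
  obtain ⟨b, hb⟩ := exists_extend A b₀
  exact ⟨b ≫ torsι G n, hom_of_extension q u₀ (meets_closedPt A) hn hk hca _
    (by rw [← MonObj.comp_pow, torsι_pow, MonObj.comp_one]) (by rw [← Category.assoc, hb, hb₀])⟩

end Groth.Agent.CentLift19

end
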