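import Groth.Agent.CentLift19.Order
import Groth.Agent.MultLift19.Basic

/-!
# Central homomorphisms out of finite étale groups of multiplicative type along thickenings
-/

universe u

open CategoryTheory CategoryTheory.Limits MonoidalCategory CartesianMonoidalCategory MonObj GrpObj AlgebraicGeometry

set_option linter.style.haveILetI false

noncomputable section

namespace Groth.Agent.CentLift19

open DSPtsLib (theta theta_left theta_comp theta_mul theta_bijective)
open MultDefLib (theta_surjective exists_lift_over IsCover isCover_of_openCover)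
open MultLift19 (theta_map)

variable {S : Scheme.{u}}

/-- The preimage of an open of the base. -/
abbrev overD (T : Over S) (D : S.Opens) : Over S := piece T (T.hom ⁻¹ᵁ D)

/-- The inclusion of the preimage of an open of the base. -/
abbrev overι (T : Over S) (D : S.Opens) : overD T D ⟶ T := pieceι T (T.hom ⁻¹ᵁ D)

theorem range_over (T : Over S) (D : S.Opens) : Set.range (overD T D).hom.base ⊆ (D : Set S) := by
  rintro _ ⟨x, rfl⟩
  exact x.2

theorem isCover_over {κ : Type u} (T : Over S) (D : κ → S.Opens) (hD : ∀ s, ∃ i, s ∈ D i) :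
    IsCover (fun i => overι T (D i)) :=
  isCover_of_openCover (fun i => inferInstanceAs (IsOpenImmersion (T.hom ⁻¹ᵁ D i).ι)) fun x => by
    obtain ⟨i, hi⟩ := hD (T.hom x)
    exact ⟨i, ⟨x, hi⟩, rfl⟩

theorem exists_over {T X : Over S} (x : T ⟶ X) (D : S.Opens) (hT : Set.range T.hom.base ⊆ (D : Set S)) :
    ∃ y : T ⟶ overD X D, y ≫ overι X D = x := by
  have hr : Set.range x.left.base ⊆ Set.range (X.hom ⁻¹ᵁ D).ι.base := by
    rw [Scheme.Opens.range_ι]
    rintro _ ⟨t, rfl⟩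
    show X.hom (x.left t) ∈ D
    rw [← Scheme.Hom.comp_apply, Over.w x]
    exact hT ⟨t, rfl⟩
  refine ⟨Over.homMk (IsOpenImmersion.lift _ x.left hr) ?_, Over.OverMorphism.ext (IsOpenImmersion.lift_fac _ _ _)⟩
  show _ ≫ (X.hom ⁻¹ᵁ D).ι ≫ X.hom = _
  rw [← Category.assoc, IsOpenImmersion.lift_fac, Over.w x]

variable {H G : Over S} [GrpObj H] [GrpObj G] {S₀ : Scheme.{u}} (q : S₀ ⟶ S)

/-- The restriction of the group over the smaller base, read over the base. -/
abbrev restr₀ (H : Over S) : Over S := (Over.map q).obj (Red.bc q H)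

/-- The inclusion of the restriction. -/
abbrev inc₀ (H : Over S) : restr₀ q H ⟶ H := theta q (𝟙 (Red.bc q H))

theorem theta_eq {Y : Over S₀} (t : Y ⟶ Red.bc q H) : theta q t = (Over.map q).map t ≫ inc₀ q H := by
  rw [← theta_comp, Category.comp_id]

theorem inc₀_comp (v : H ⟶ G) : inc₀ q H ≫ v = theta q ((Over.pullback q).map v) := by
  rw [← theta_map, Category.id_comp]

variable (u₀ : Red.bc q H ⟶ Red.bc q G)

/-- Points of the restriction in terms of points over the smaller base. -/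
theorem exists_pts₀ {T : Over S} (t : T ⟶ restr₀ q H) :
    ∃ (Y : Over S₀) (y : Y ⟶ Red.bc q H) (e : T ⟶ (Over.map q).obj Y) (e' : (Over.map q).obj Y ⟶ T),
      e ≫ e' = 𝟙 T ∧ e' ≫ e = 𝟙 _ ∧ t ≫ inc₀ q H = e ≫ theta q y ∧
        t ≫ theta q u₀ = e ≫ theta q (y ≫ u₀) := by
  let Y : Over S₀ := Over.mk (t.left ≫ (Red.bc q H).hom)
  let y : Y ⟶ Red.bc q H := Over.homMk t.left rfl
  have hw : (t.left ≫ (Red.bc q H).hom) ≫ q = T.hom := (Category.assoc _ _ _).trans (Over.w t)
  let e : T ⟶ (Over.map q).obj Y := Over.homMk (𝟙 T.left) ((Category.id_comp _).trans hw)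
  let e' : (Over.map q).obj Y ⟶ T := Over.homMk (𝟙 T.left) ((Category.id_comp _).trans hw.symm)
  have ht : t = e ≫ (Over.map q).map y := Over.OverMorphism.ext (Category.id_comp t.left).symm
  exact ⟨Y, y, e, e', Over.OverMorphism.ext (Category.id_comp _), Over.OverMorphism.ext (Category.id_comp _),
    by rw [ht, Category.assoc, ← theta_eq], by rw [ht, Category.assoc, ← theta_comp]⟩

theorem cen₀ (hc : ∀ (X : Over S₀) (x : X ⟶ Red.bc q H) (g : X ⟶ Red.bc q G), (x ≫ u₀) * g = g * (x ≫ u₀)) :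
    Cen (theta q u₀) := by
  intro T t g
  obtain ⟨Y, y, e, e', he, -, -, ht⟩ := exists_pts₀ q u₀ t
  obtain ⟨g', hg'⟩ := theta_surjective q (e' ≫ g)
  have hg : g = e ≫ theta q g' := by rw [hg', ← Category.assoc, he, Category.id_comp]
  rw [ht, hg, ← MonObj.comp_mul, ← MonObj.comp_mul, ← theta_mul, ← theta_mul, hc]

variable [IsMonHom u₀]

theorem pow₀ {T : Over S} (t : T ⟶ restr₀ q H) {n : ℕ} (ht : (t ≫ inc₀ q H) ^ n = 1) :
    (t ≫ theta q u₀) ^ n = 1 := by
  obtain ⟨Y, y, e, e', he, he', h1, h2⟩ := exists_pts₀ q u₀ t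
  let θ : ∀ (G : Over S) [GrpObj G], (Y ⟶ Red.bc q G) →* ((Over.map q).obj Y ⟶ G) := fun G _ =>
    MonoidHom.mk' (theta q) (theta_mul q)
  have h3 : e ≫ (θ H y ^ n) = e ≫ 1 := by
    rw [MonObj.comp_pow, MonObj.comp_one]
    exact h1 ▸ ht
  have h4 : θ H y ^ n = 1 := by
    have := congrArg (e' ≫ ·) h3
    simpa only [← Category.assoc, he', Category.id_comp] using this
  have h5 : y ^ n = 1 := (theta_bijective q).1 ((_root_.map_pow (θ H) y n).trans (h4.trans (map_one (θ H)).symm))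
  rw [h2, ← MonObj.comp_pow, show theta q (y ≫ u₀) = θ G (y ≫ u₀) from rfl, ← _root_.map_pow,
    ← MonObj.pow_comp, h5, MonObj.one_comp, map_one, MonObj.comp_one]

/-- Morphisms between schemes overD the smaller base are defined overD it. -/
theorem exists_map_eq [Mono q] {Y Z : Over S₀} (t : (Over.map q).obj Y ⟶ (Over.map q).obj Z) :
    ∃ y : Y ⟶ Z, (Over.map q).map y = t :=
  ⟨Over.homMk t.left ((cancel_mono q).1 (by rw [Category.assoc]; exact Over.w t)), Over.OverMorphism.ext rfl⟩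

theorem mul₀ [Mono q] {T : Over S} (t t₁ t₂ : T ⟶ restr₀ q H)
    (h : t ≫ inc₀ q H = (t₁ ≫ inc₀ q H) * (t₂ ≫ inc₀ q H)) :
    t ≫ theta q u₀ = (t₁ ≫ theta q u₀) * (t₂ ≫ theta q u₀) := by
  obtain ⟨Y, y, e, e', he, he', h1, h2⟩ := exists_pts₀ q u₀ t
  obtain ⟨y₁, hy₁⟩ := exists_map_eq q (e' ≫ t₁)
  obtain ⟨y₂, hy₂⟩ := exists_map_eq q (e' ≫ t₂)
  have ht₁ : t₁ = e ≫ (Over.map q).map y₁ := by rw [hy₁, ← Category.assoc, he, Category.id_comp]
  have ht₂ : t₂ = e ≫ (Over.map q).map y₂ := by rw [hy₂, ← Category.assoc, he, Category.id_comp]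
  rw [h1, ht₁, ht₂, Category.assoc, Category.assoc, ← theta_eq, ← theta_eq, ← MonObj.comp_mul, ← theta_mul] at h
  have h' := congrArg (e' ≫ ·) h
  simp only [← Category.assoc, he', Category.id_comp] at h'
  rw [h2, ht₁, ht₂, Category.assoc, Category.assoc, ← theta_comp, ← theta_comp, ← MonObj.comp_mul, ← theta_mul,
    ← MonObj.mul_comp, (theta_bijective q).1 h']

variable [Flat G.hom] [LocallyOfFinitePresentation G.hom] [IsClosedImmersion q] [Surjective q]

set_option maxHeartbeats 800000 in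
/-- Central homomorphisms out of a group killed locally by invertible integers extend uniquely along
surjective closed immersions of the base. -/
theorem exists_central_lift
    (hH : ∀ s : S, ∃ (D : S.Opens) (n : ℕ), s ∈ D ∧ (∀ p ∈ D, (n : S.residueField p) ≠ 0) ∧
      ∀ (T : Over S) (x : T ⟶ H), Set.range T.hom.base ⊆ (D : Set S) → x ^ n = 1)
    (hc : ∀ (X : Over S₀) (x : X ⟶ Red.bc q H) (g : X ⟶ Red.bc q G), (x ≫ u₀) * g = g * (x ≫ u₀)) :
    ∃ u : H ⟶ G, IsMonHom u ∧ (Over.pullback q).map u = u₀ ∧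
      (∀ (X : Over S) (x : X ⟶ H) (g : X ⟶ G), (x ≫ u) * g = g * (x ≫ u)) ∧
      ∀ u' : H ⟶ G, IsMonHom u' → (Over.pullback q).map u' = u₀ → u' = u := by
  choose D n hD hinv hkill using hH
  let e := inc₀ q H
  let a₀ := theta q u₀
  haveI hec : IsClosedImmersion e.left := by
    show IsClosedImmersion ((𝟙 (Red.bc q H) : _ ⟶ _).left ≫ pullback.fst H.hom q)
    exact inferInstance
  haveI hes : Surjective e.left := by
    show Surjective ((𝟙 (Red.bc q H) : _ ⟶ _).left ≫ pullback.fst H.hom q)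
    exact inferInstance
  have hca : Cen a₀ := cen₀ q u₀ hc
  have hInv : ∀ (i : S) (T : Over S), Set.range T.hom.base ⊆ (D i : Set S) → InvAt (n i) T.left :=
    fun i T hT x hx => hinv i (T.hom x) (hT ⟨x, rfl⟩)
      ((T.hom.residueFieldMap x).hom.injective (by rw [map_natCast, map_zero, hx]))
  have hpow₀ : ∀ (i : S) (T : Over S) (t : T ⟶ restr₀ q H), Set.range T.hom.base ⊆ (D i : Set S) →
      (t ≫ a₀) ^ n i = 1 := fun i T t hT => pow₀ q u₀ t (hkill i T _ hT)
  -- every scheme overD the base and its restriction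
  have hres : ∀ T : Over S, ∃ (T₀ : Over S) (eT : T₀ ⟶ T), Surjective eT.left ∧
      ∀ x : T ⟶ H, ∃ t₀ : T₀ ⟶ restr₀ q H, eT ≫ x = t₀ ≫ e := by
    intro T
    refine ⟨Over.mk (pullback.fst T.hom q ≫ T.hom), Over.homMk (pullback.fst T.hom q) rfl,
      inferInstanceAs (Surjective (pullback.fst T.hom q)), fun x => ?_⟩
    have hw : (pullback.fst T.hom q ≫ x.left) ≫ H.hom = pullback.snd T.hom q ≫ q := by
      rw [Category.assoc, Over.w x, pullback.condition]
    refine ⟨Over.homMk (pullback.lift (f := H.hom) (g := q) _ _ hw) ?_, Over.OverMorphism.ext ?_⟩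
    · show pullback.lift _ _ hw ≫ pullback.snd H.hom q ≫ q = pullback.fst T.hom q ≫ T.hom
      rw [pullback.lift_snd_assoc, pullback.condition]
    · show pullback.fst T.hom q ≫ x.left = pullback.lift _ _ hw ≫ 𝟙 _ ≫ pullback.fst H.hom q
      erw [Category.id_comp, pullback.lift_fst]
  have hsub : ∀ (i : S) {T T₀ : Over S} (eT : T₀ ⟶ T), Set.range T.hom.base ⊆ (D i : Set S) →
      Set.range T₀.hom.base ⊆ (D i : Set S) := fun i T T₀ eT hT => by
    rintro _ ⟨z, rfl⟩
    rw [← Over.w eT, Scheme.Hom.comp_apply]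
    exact hT ⟨eT.left z, rfl⟩
  let P₀ : S → Over S := fun i => piece (restr₀ q H) (e.left ⁻¹ᵁ (H.hom ⁻¹ᵁ D i))
  let tP : ∀ i, P₀ i ⟶ restr₀ q H := fun i => pieceι (restr₀ q H) _
  let eP : ∀ i, P₀ i ⟶ overD H (D i) := fun i => Over.homMk (e.left ∣_ (H.hom ⁻¹ᵁ D i)) (by
    show (e.left ∣_ _) ≫ (H.hom ⁻¹ᵁ D i).ι ≫ H.hom = (e.left ⁻¹ᵁ _).ι ≫ (restr₀ q H).hom
    rw [morphismRestrict_ι_assoc, Over.w e])
  have hPc : ∀ i, IsClosedImmersion (eP i).left := fun i => IsZariskiLocalAtTarget.restrict hec _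
  have hPs : ∀ i, Surjective (eP i).left := fun i => IsZariskiLocalAtTarget.restrict hes _
  have hk : ∀ i, ∃ k : overD H (D i) ⟶ G, k ^ n i = 1 ∧ eP i ≫ k = tP i ≫ a₀ := fun i => by
    haveI := hPc i
    haveI := hPs i
    exact exists_of_thick (eP i) (hInv i _ (hsub i (eP i) (range_over H (D i))))
      (hpow₀ i _ (tP i) (hsub i (eP i) (range_over H (D i)))) (hca.comp _)
  choose k hkn hke using hk
  -- the value at a point over one of the opens
  have hval : ∀ (i : S) {T : Over S} (y : T ⟶ overD H (D i)) {T₀ : Over S} (eT : T₀ ⟶ T)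
      (t₀ : T₀ ⟶ restr₀ q H), eT ≫ y ≫ overι H (D i) = t₀ ≫ e → eT ≫ y ≫ k i = t₀ ≫ a₀ := by
    intro i T y T₀ eT t₀ h
    obtain ⟨w, hw1, hw2⟩ : ∃ w : T₀.left ⟶ ↑(e.left ⁻¹ᵁ (H.hom ⁻¹ᵁ D i)),
        w ≫ (e.left ∣_ (H.hom ⁻¹ᵁ D i)) = (eT ≫ y).left ∧ w ≫ (e.left ⁻¹ᵁ (H.hom ⁻¹ᵁ D i)).ι = t₀.left :=
      ⟨(isPullback_morphismRestrict e.left (H.hom ⁻¹ᵁ D i)).lift (eT ≫ y).left t₀.left
          (congrArg CommaMorphism.left ((Category.assoc eT y _).trans h)),
        IsPullback.lift_fst _ _ _ _, IsPullback.lift_snd _ _ _ _⟩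
    let l : T₀ ⟶ P₀ i := Over.homMk w (by
      show w ≫ (e.left ⁻¹ᵁ _).ι ≫ (restr₀ q H).hom = T₀.hom
      rw [← Category.assoc, hw2, Over.w t₀])
    have hl1 : l ≫ eP i = eT ≫ y := Over.OverMorphism.ext hw1
    have hl2 : l ≫ tP i = t₀ := Over.OverMorphism.ext hw2
    rw [← Category.assoc eT, ← hl1, Category.assoc, hke, ← Category.assoc, hl2]
  have hcov : ∀ T : Over S, IsCover (fun i => overι T (D i)) := fun T =>
    isCover_over T D fun s => ⟨s, hD s⟩
  obtain ⟨u, hu⟩ := (hcov H).exists_glue k fun i j T a b hab => by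
    obtain ⟨T₀, eT, hs, hlift⟩ := hres T
    obtain ⟨t₀, ht₀⟩ := hlift (a ≫ overι H (D i))
    have hTi : Set.range T.hom.base ⊆ (D i : Set S) := hsub i a (range_over H (D i))
    have hTj : Set.range T.hom.base ⊆ (D j : Set S) := hsub j b (range_over H (D j))
    have hci : eT ≫ a ≫ k i = t₀ ≫ a₀ := hval i a eT t₀ ht₀
    have hcj : eT ≫ b ≫ k j = t₀ ≫ a₀ := hval j b eT t₀ (by rw [← hab]; exact ht₀)
    have hi : (a ≫ k i) ^ n i = 1 := by rw [← MonObj.comp_pow, hkn, MonObj.comp_one]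
    have hj : (b ≫ k j) ^ n j = 1 := by rw [← MonObj.comp_pow, hkn, MonObj.comp_one]
    have h0 : eT ≫ (a ≫ k i) ^ n j = (1 : T₀ ⟶ G) := by
      rw [MonObj.comp_pow, hci]
      exact hpow₀ j T₀ t₀ (hsub j eT hTj)
    have hij : (a ≫ k i) ^ n j = 1 := by
      refine eq_of_thick eT (hInv i T₀ (hsub i eT hTi)) (n := n i) ?_ (_root_.one_pow _) ?_ ?_
      · rw [← pow_mul, mul_comm, pow_mul, hi, _root_.one_pow]
      · rw [h0, MonObj.comp_one]
      · rw [h0]; exact cen_one
    exact eq_of_thick eT (hInv j T₀ (hsub j eT hTj)) hij hj (hci.trans hcj.symm) (hci ▸ hca.comp t₀)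
  -- properties of the glued morphism on points over one of the opens
  have hun : ∀ (i : S) {T : Over S} (x : T ⟶ H), Set.range T.hom.base ⊆ (D i : Set S) →
      (x ≫ u) ^ n i = 1 := by
    intro i T x hT
    obtain ⟨y, rfl⟩ := exists_over x (D i) hT
    rw [Category.assoc, hu, ← MonObj.comp_pow, hkn, MonObj.comp_one]
  have heu : e ≫ u = a₀ := by
    refine (hcov _).hom_ext fun i => ?_
    obtain ⟨y, hy⟩ := exists_over (overι (restr₀ q H) (D i) ≫ e) (D i) (range_over _ (D i))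
    have h := hval i y (𝟙 _) (overι (restr₀ q H) (D i)) (by rw [Category.id_comp, hy])
    rw [Category.id_comp] at h
    rw [← Category.assoc, ← hy, Category.assoc, hu]
    exact h
  have hcu : Cen u := by
    intro T t g
    refine (hcov T).hom_ext fun i => ?_
    obtain ⟨y, hy⟩ := exists_over (overι T (D i) ≫ t) (D i) (range_over T (D i))
    haveI := hPs i
    have hki : Cen (k i) := cen_of_thick (eP i) (hInv i _ (hsub i (eP i) (range_over H (D i)))) (hkn i)
      (hke i ▸ hca.comp _)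
    rw [MonObj.comp_mul, MonObj.comp_mul, ← Category.assoc, ← hy, Category.assoc, hu]
    exact hki _ y _
  refine ⟨u, MultLift19.isMonHom_of_mul u fun T x y => (hcov T).hom_ext fun i => ?_,
    (theta_bijective q).1 ((inc₀_comp q u).symm.trans heu), hcu, fun u' hu' h' => (hcov H).hom_ext fun i => ?_⟩
  · obtain ⟨T₀, eT, hs, hlift⟩ := hres (overD T (D i))
    rw [← Category.assoc, MonObj.comp_mul, MonObj.comp_mul, ← Category.assoc _ x, ← Category.assoc _ y]
    generalize overι T (D i) ≫ x = x₁, overι T (D i) ≫ y = y₁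
    obtain ⟨t, ht⟩ := hlift (x₁ * y₁)
    obtain ⟨t₁, ht₁⟩ := hlift x₁
    obtain ⟨t₂, ht₂⟩ := hlift y₁
    have hT := range_over T (D i)
    have hl : eT ≫ (x₁ * y₁) ≫ u = t ≫ a₀ := by rw [← Category.assoc, ht, Category.assoc, heu]
    refine eq_of_thick eT (hInv i T₀ (hsub i eT hT)) (hun i _ hT) ?_ ?_ (hl ▸ hca.comp t)
    · rw [Commute.mul_pow (hcu _ x₁ _), hun i _ hT, hun i _ hT, _root_.mul_one]
    · rw [hl, MonObj.comp_mul, ← Category.assoc, ht₁, ← Category.assoc, ht₂, Category.assoc, Category.assoc, heu]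
      exact mul₀ q u₀ t t₁ t₂ (by rw [← ht, ← ht₁, ← ht₂, MonObj.comp_mul])
  · obtain ⟨T₀, eT, hs, hlift⟩ := hres (overD H (D i))
    obtain ⟨t₀, ht₀⟩ := hlift (overι H (D i))
    have heu' : e ≫ u' = a₀ := (inc₀_comp q u').trans (congrArg (theta q) h')
    have hT := range_over H (D i)
    refine eq_of_thick eT (hInv i T₀ (hsub i eT hT)) ?_ (hun i _ hT) ?_ ?_
    · haveI := hu'
      rw [← MonObj.pow_comp, hkill i _ _ hT, MonObj.one_comp]
    · rw [← Category.assoc, ht₀, Category.assoc, heu', ← Category.assoc, ht₀, Category.assoc, heu]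
    · rw [← Category.assoc, ht₀, Category.assoc, heu']
      exact hca.comp t₀

end Groth.Agent.CentLift19

end
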