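import Groth.Agent.MultLift19.Bridge
import Groth.Agent.MultTypeLib.NilLift
import Groth.Agent.MultTypeLib.QuasiIso
import Groth.Agent.MultDefLib.Flat

/-!
# Lifting groups of multiplicative type and of finite type along nil ideals
-/

universe u

open CategoryTheory CategoryTheory.Limits MonoidalCategory CartesianMonoidalCategory MonObj GrpObj AlgebraicGeometry
open TensorProduct

set_option linter.style.haveILetI false

noncomputable section

namespace Groth.Agent.CentLift19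

open GrpSchLib.AffineHopf (sp)

variable {R : Type u} [CommRing R] {A : Type u} [CommRing A] [HopfAlgebra R A]

/-- A member of a cover with small finitely generated character group. -/
theorem exists_small_split' (P : MultTypeLib.Split R A) (hfg : Nontrivial P.S → Monoid.FG P.M) :
    ∃ (M : Type) (_ : AddCommGroup M), AddGroup.FG M ∧
      Nonempty (P.S ⊗[R] A ≃ₐc[P.S] MonoidAlgebra P.S (Multiplicative M)) := by
  rcases subsingleton_or_nontrivial P.S with hs | hs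
  · refine ⟨Fin 1 → ℤ, inferInstance, AddGroup.fg_iff_addMonoid_fg.mpr inferInstance, ?_⟩
    haveI : Subsingleton (P.S ⊗[R] A) := Module.subsingleton P.S _
    haveI : Subsingleton (MonoidAlgebra P.S (Multiplicative (Fin 1 → ℤ))) := Module.subsingleton P.S _
    refine ⟨BialgEquiv.ofBijective (BialgHom.ofAlgHom
      ({ toFun := 0, map_one' := Subsingleton.elim _ _, map_mul' := fun _ _ => Subsingleton.elim _ _,
         map_zero' := rfl, map_add' := fun _ _ => Subsingleton.elim _ _,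
         commutes' := fun _ => Subsingleton.elim _ _ } : P.S ⊗[R] A →ₐ[P.S] MonoidAlgebra P.S (Multiplicative (Fin 1 → ℤ)))
      (AlgHom.ext fun _ => Subsingleton.elim _ _) (AlgHom.ext fun _ => ?_)) ⟨fun _ _ _ => Subsingleton.elim _ _,
        fun b => ⟨0, Subsingleton.elim _ _⟩⟩⟩
    haveI : Subsingleton (MonoidAlgebra P.S (Multiplicative (Fin 1 → ℤ)) ⊗[P.S] MonoidAlgebra P.S (Multiplicative (Fin 1 → ℤ))) :=
      Module.subsingleton P.S _
    exact Subsingleton.elim _ _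
  · haveI : Group.FG P.M := Group.fg_iff_monoid_fg.mpr (hfg hs)
    obtain ⟨M, _, hM, ⟨φ⟩⟩ := MultLift19.exists_small_fg P.M
    refine ⟨M, inferInstance, hM, ⟨P.bialgEquiv.trans (BialgEquiv.ofBijective
      (MonoidAlgebra.mapDomainBialgHom P.S φ.toMonoidHom) (Function.bijective_iff_has_inverse.mpr
        ⟨MonoidAlgebra.mapDomainBialgHom P.S φ.symm.toMonoidHom, fun x => ?_, fun x => ?_⟩))⟩⟩ <;>
      rw [MonoidAlgebra.mapDomainBialgHom_mapDomainBialgHom] <;> simp

/-- A Hopf algebra of multiplicative type whose character groups are finitely generated has a spectrum of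
multiplicative type and of finite type. -/
theorem multTypeFT_sp' (hA : SGA3b.IsMultType R A)
    (hfg : ∀ P : MultTypeLib.Split R A, Nontrivial P.S → Monoid.FG P.M) :
    SGA3x.IsMultTypeFT (sp R A) := by
  classical
  obtain ⟨c⟩ := MultTypeLib.exists_cover hA
  let F : c.ι → Scheme.{u} := fun i => Spec (CommRingCat.of (c.split i).S)
  let a : ∀ i, F i ⟶ Spec (CommRingCat.of R) := fun i =>
    Spec.map (CommRingCat.ofHom (algebraMap R (c.split i).S))
  let f : ∐ F ⟶ Spec (CommRingCat.of R) := Sigma.desc a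
  haveI hflat : Flat f := IsZariskiLocalAtSource.sigmaDesc fun i =>
    Flat.SpecMap_iff.mpr (RingHom.flat_algebraMap_iff.mpr (c.split i).flat)
  have hsurj : Surjective f := ⟨fun p => by
    obtain ⟨i, q, hq, hqp⟩ := c.surj p.asIdeal p.isPrime
    refine ⟨(Sigma.ι F i).base ⟨q, hq⟩, ?_⟩
    rw [← Scheme.Hom.comp_apply, Sigma.ι_desc]
    exact PrimeSpectrum.ext hqp⟩
  haveI : IsAffine (∐ F) := inferInstance
  refine ⟨∐ F, f, hflat, hsurj, fun V hV => ⟨f ⁻¹ᵁ V, (hV.preimage f).isCompact, ?_⟩, fun s' => ?_⟩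
  · exact Set.image_preimage_eq _ f.surjective
  · obtain ⟨i, x, rfl⟩ : ∃ i x, (Sigma.ι F i).base x = s' := by
      obtain ⟨i, x, hx⟩ := (sigmaOpenCover F).exists_eq s'
      exact ⟨i, x, hx⟩
    obtain ⟨M, _, hM, ⟨e⟩⟩ := exists_small_split' (c.split i) (hfg _)
    refine ⟨(Sigma.ι F i).opensRange, ⟨x, rfl⟩, M, inferInstance, hM, ?_⟩
    let j := (Sigma.ι F i).isoOpensRange
    have hj : j.inv ≫ a i = (Sigma.ι F i).opensRange.ι ≫ f := by
      rw [Iso.inv_comp_eq, Scheme.Hom.isoOpensRange_hom_ι_assoc, Sigma.ι_desc]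
    obtain ⟨e₁⟩ := GrpSchLib.MultTypeBC.bc_congr hj (sp R A)
    obtain ⟨e₂⟩ := GrpSchLib.MultTypeBC.bc_bc j.inv (a i) (sp R A)
    obtain ⟨e₃⟩ := GrpSchLib.AffineHopf.nonempty_bc_sp (R := R) (c.split i).S A
    obtain ⟨e₄⟩ := GrpSchLib.AffineHopf.nonempty_DS_iso (c.split i).S M
    obtain ⟨e₅⟩ := GrpSchLib.MultTypeBC.bc_iso j.inv (e₃ ≪≫ GrpSchLib.AffineHopf.spIso e.symm ≪≫ e₄)
    obtain ⟨e₆⟩ := GrpSchLib.MultTypeBC.bc_DS j.inv M
    exact ⟨e₁.symm ≪≫ e₂.symm ≪≫ e₅ ≪≫ e₆⟩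

/-- Finite generation of the characters is detected modulo a nil ideal. -/
theorem fg_of_nil (J : Ideal R) (hJ : ∀ x ∈ J, IsNilpotent x)
    (hft : Algebra.FiniteType (R ⧸ J) ((R ⧸ J) ⊗[R] A)) (P : MultTypeLib.Split R A) (hS : Nontrivial P.S) :
    Monoid.FG P.M := by
  let I : Ideal P.S := J.map (algebraMap R P.S)
  have hI : I ≠ ⊤ := fun h => by
    have hle : I ≤ nilradical P.S := Ideal.map_le_iff_le_comap.2 fun x hx => (hJ x hx).map (algebraMap R P.S)
    exact not_isNilpotent_one (mem_nilradical.1 (hle (h ▸ Submodule.mem_top : (1 : P.S) ∈ I)))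
  haveI : Nontrivial (P.S ⧸ I) := Ideal.Quotient.nontrivial_iff.mpr hI
  letI : Algebra (R ⧸ J) (P.S ⧸ I) :=
    (Ideal.quotientMap I (algebraMap R P.S) (Ideal.map_le_iff_le_comap.1 le_rfl)).toAlgebra
  haveI : IsScalarTower R (R ⧸ J) (P.S ⧸ I) := IsScalarTower.of_algebraMap_eq fun r => rfl
  haveI := hft
  have h1 : Algebra.FiniteType (P.S ⧸ I) ((P.S ⧸ I) ⊗[R] A) :=
    Algebra.FiniteType.equiv
      (inferInstance : Algebra.FiniteType (P.S ⧸ I) ((P.S ⧸ I) ⊗[R ⧸ J] ((R ⧸ J) ⊗[R] A)))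
      (Algebra.TensorProduct.cancelBaseChange R (R ⧸ J) (P.S ⧸ I) (P.S ⧸ I) A)
  let e : (P.S ⧸ I) ⊗[R] A ≃ₐ[P.S ⧸ I] MonoidAlgebra (P.S ⧸ I) P.M :=
    ((Algebra.TensorProduct.cancelBaseChange R P.S (P.S ⧸ I) (P.S ⧸ I) A).symm.trans
      (Algebra.TensorProduct.congr AlgEquiv.refl P.equiv)).trans (MonoidAlgebra.scalarTensorEquiv P.S (P.S ⧸ I))
  exact MonoidAlgebra.finiteType_iff_fg.mp (Algebra.FiniteType.equiv h1 e)

/-- Groups of multiplicative type and of finite type lift along nil ideals. -/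
theorem exists_mult_lift (J : Ideal R) (hJ : ∀ x ∈ J, IsNilpotent x)
    {H₀ : Over (Spec (CommRingCat.of (R ⧸ J)))} [GrpObj H₀] (hm : SGA3x.IsMultTypeFT H₀)
    (hlft : LocallyOfFiniteType H₀.hom) :
    ∃ (H : Over (Spec (CommRingCat.of R))) (_ : GrpObj H), SGA3x.IsMultTypeFT H ∧ IsAffineHom H.hom ∧
      Nonempty (Grp.mk (Red.bc (Spec.map (CommRingCat.ofHom (Ideal.Quotient.mk J))) H) ≅ Grp.mk H₀) := by
  obtain ⟨A₀, i₁, i₂, hA₀, ⟨e₀⟩⟩ := MultDefLib.exists_hopf_multType (MultDefLib.multLoc_of_multTypeFT hm)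
  have hft : Algebra.FiniteType (R ⧸ J) A₀ := by
    haveI := hlft
    have h2 : LocallyOfFiniteType (sp (R ⧸ J) A₀).hom := by
      rw [← Over.w (MultDefLib.overIso e₀).hom]
      haveI : IsIso (MultDefLib.overIso e₀).hom.left :=
        inferInstanceAs (IsIso ((Over.forget _).map (MultDefLib.overIso e₀).hom))
      infer_instance
    exact RingHom.finiteType_algebraMap.mp ((HasRingHomProperty.Spec_iff (P := @LocallyOfFiniteType)).mp h2)
  obtain ⟨B, i₃, i₄, hB, ⟨β⟩⟩ := MultTypeLib.exists_quasiIsotrivial_lift J hJ A₀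
    (MultTypeLib.isQuasiIsotrivial_of_isMultType hft hA₀)
  have hft' : Algebra.FiniteType (R ⧸ J) ((R ⧸ J) ⊗[R] B) :=
    Algebra.FiniteType.equiv hft (β : _ ≃ₐ[R ⧸ J] A₀).symm
  obtain ⟨k⟩ := GrpSchLib.AffineHopf.nonempty_bc_sp (R := R) (R ⧸ J) B
  exact ⟨sp R B, inferInstance, multTypeFT_sp' (MultDefLib.isMultType_of_quasiIsotrivial hB)
    (fun P hP => fg_of_nil J hJ hft' P hP), (haveI : IsAffine (sp R B).left := inferInstanceAs (IsAffine (Spec _)); isAffineHom_of_isAffine _), ⟨k ≪≫ GrpSchLib.AffineHopf.spIso β.symm ≪≫ e₀⟩⟩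

end Groth.Agent.CentLift19

end
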