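import Groth.Agent.MultDefLib.CoverGlue
import Groth.Agent.AlgSpLib.NilLift
import Mathlib.AlgebraicGeometry.Morphisms.Etale
import Mathlib.AlgebraicGeometry.Morphisms.FormallyUnramified

/-!
# Morphisms to étale schemes do not see surjective closed immersions
-/

universe u

open CategoryTheory CategoryTheory.Limits AlgebraicGeometry

set_option linter.style.haveILetI false

noncomputable section

namespace Groth.Agent.CentLift19

variable {S : Scheme.{u}} {X₀ X E : Over S} (e : X₀ ⟶ X)

/-- Morphisms to an unramified scheme are determined by their restriction along a surjection. -/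
theorem eq_of_unramified [Surjective e.left] [FormallyUnramified E.hom] [LocallyOfFiniteType E.hom]
    {a b : X ⟶ E} (h : e ≫ a = e ≫ b) : a = b := by
  let c : X.left ⟶ pullback E.hom E.hom := pullback.lift a.left b.left ((Over.w a).trans (Over.w b).symm)
  let p := pullback.fst c (pullback.diagonal E.hom)
  haveI : IsOpenImmersion p := inferInstanceAs (IsOpenImmersion (pullback.fst c (pullback.diagonal E.hom)))
  have hw : e.left ≫ c = (e ≫ a).left ≫ pullback.diagonal E.hom := by
    apply pullback.hom_ext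
    · rw [Category.assoc, Category.assoc, pullback.diagonal_fst, Category.comp_id]
      exact congrArg (e.left ≫ ·) (pullback.lift_fst _ _ _)
    · rw [Category.assoc, Category.assoc, pullback.diagonal_snd, Category.comp_id, h]
      exact congrArg (e.left ≫ ·) (pullback.lift_snd _ _ _)
  haveI : Surjective p := ⟨fun x => by
    obtain ⟨x₀, rfl⟩ := e.left.surjective x
    refine ⟨pullback.lift e.left (e ≫ a).left hw x₀, ?_⟩
    rw [← Scheme.Hom.comp_apply, pullback.lift_fst]⟩
  haveI : IsIso p := (isIso_iff_isOpenImmersion_and_surjective _).mpr ⟨inferInstance, inferInstance⟩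
  have hc : c = inv p ≫ pullback.snd c (pullback.diagonal E.hom) ≫ pullback.diagonal E.hom := by
    rw [← pullback.condition, IsIso.inv_hom_id_assoc]
  have h1 := congrArg (· ≫ pullback.fst E.hom E.hom) hc
  have h2 := congrArg (· ≫ pullback.snd E.hom E.hom) hc
  simp only [c, Category.assoc, pullback.lift_fst, pullback.lift_snd, pullback.diagonal_fst,
    pullback.diagonal_snd] at h1 h2
  exact Over.OverMorphism.ext (h1.trans h2.symm)

/-- A piece of an open cover, over the base. -/
abbrev piece (X : Over S) (W : X.left.Opens) : Over S := Over.mk (W.ι ≫ X.hom)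

/-- The inclusion of a piece. -/
abbrev pieceι (X : Over S) (W : X.left.Opens) : piece X W ⟶ X := Over.homMk W.ι rfl

/-- Morphisms to an étale scheme extend along surjective closed immersions. -/
theorem exists_lift [IsClosedImmersion e.left] [Surjective e.left] [Etale E.hom] (a₀ : X₀ ⟶ E) :
    ∃ a : X ⟶ E, e ≫ a = a₀ := by
  choose W l hz hl hlb using fun z : X₀.left => AlgSpLib.exists_local_lift_thick e.left E.hom a₀.left X.hom
    ((Over.w e).trans (Over.w a₀).symm) z
  let k : ∀ z, piece X (W z) ⟶ E := fun z => Over.homMk (l z) (hlb z)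
  have hcov : MultDefLib.IsCover (fun z => pieceι X (W z)) :=
    MultDefLib.isCover_of_openCover (fun z => inferInstanceAs (IsOpenImmersion (W z).ι)) fun x => by
      obtain ⟨z, rfl⟩ := e.left.surjective x
      exact ⟨z, ⟨e.left z, hz z⟩, rfl⟩
  have hres : ∀ (z : X₀.left) (T₀ : Over S) (t₀ : T₀ ⟶ X₀) (y : T₀ ⟶ piece X (W z)),
      y ≫ pieceι X (W z) = t₀ ≫ e → y ≫ k z = t₀ ≫ a₀ := by
    intro z T₀ t₀ y hy
    refine Over.OverMorphism.ext ?_
    show y.left ≫ l z = t₀.left ≫ a₀.left
    obtain ⟨w, hw1, hw2⟩ : ∃ w : T₀.left ⟶ ↑(e.left ⁻¹ᵁ W z),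
        w ≫ (e.left ∣_ W z) = y.left ∧ w ≫ (e.left ⁻¹ᵁ W z).ι = t₀.left :=
      ⟨(isPullback_morphismRestrict e.left (W z)).lift y.left t₀.left (congrArg CommaMorphism.left hy),
        IsPullback.lift_fst _ _ _ _, IsPullback.lift_snd _ _ _ _⟩
    rw [← hw1, Category.assoc, hl, ← Category.assoc, hw2]
  obtain ⟨a, ha⟩ := hcov.exists_glue k fun i j T u v huv => by
    let T₀ : Over S := Over.mk (pullback.fst (u ≫ pieceι X (W i)).left e.left ≫ T.hom)
    let eT : T₀ ⟶ T := Over.homMk (pullback.fst (u ≫ pieceι X (W i)).left e.left) rfl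
    haveI : Surjective eT.left :=
      inferInstanceAs (Surjective (pullback.fst (u ≫ pieceι X (W i)).left e.left))
    let t₀ : T₀ ⟶ X₀ := Over.homMk (pullback.snd (u ≫ pieceι X (W i)).left e.left) (by
      show _ = pullback.fst (u ≫ pieceι X (W i)).left e.left ≫ T.hom
      rw [← Over.w e, ← pullback.condition_assoc, Over.w (u ≫ pieceι X (W i))])
    have h0 : (eT ≫ u) ≫ pieceι X (W i) = t₀ ≫ e := Over.OverMorphism.ext (by
      show (pullback.fst (u ≫ pieceι X (W i)).left e.left ≫ u.left) ≫ (W i).ι = _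
      rw [Category.assoc]
      exact pullback.condition)
    refine eq_of_unramified eT ?_
    rw [← Category.assoc eT, ← Category.assoc eT, hres i T₀ t₀ _ h0,
      hres j T₀ t₀ _ (by rw [Category.assoc, ← huv, ← Category.assoc, h0])]
  refine ⟨a, ?_⟩
  have hcov₀ : MultDefLib.IsCover (fun z => pieceι X₀ (e.left ⁻¹ᵁ W z)) :=
    MultDefLib.isCover_of_openCover (fun z => inferInstanceAs (IsOpenImmersion (e.left ⁻¹ᵁ W z).ι))
      fun z => ⟨z, ⟨z, hz z⟩, rfl⟩
  refine hcov₀.hom_ext fun z => ?_
  let y : piece X₀ (e.left ⁻¹ᵁ W z) ⟶ piece X (W z) := Over.homMk (e.left ∣_ W z) (by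
    show (e.left ∣_ W z) ≫ (W z).ι ≫ X.hom = (e.left ⁻¹ᵁ W z).ι ≫ X₀.hom
    rw [morphismRestrict_ι_assoc, Over.w e])
  have hy : y ≫ pieceι X (W z) = pieceι X₀ (e.left ⁻¹ᵁ W z) ≫ e :=
    Over.OverMorphism.ext (morphismRestrict_ι _ _)
  rw [← Category.assoc, ← hy, Category.assoc, ha z, hres z _ _ y hy]

end Groth.Agent.CentLift19

end
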