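import Groth.Agent.CentLift19.Torsion
import Groth.Agent.GrpSchLib.MultTypeBC
import Groth.Agent.TwHom19.Apply
import Groth.Agent.TwHom19.CharConst
import Groth.Agent.UnramMisc.QFSmooth
import Mathlib.RingTheory.TensorProduct.MonoidAlgebra
import Mathlib.RingTheory.Unramified.Field
import Mathlib.GroupTheory.Perm.Cycle.Type

/-!
# Orders of finite étale groups of multiplicative type
-/

universe u

open CategoryTheory CategoryTheory.Limits MonoidalCategory CartesianMonoidalCategory MonObj GrpObj AlgebraicGeometry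
open TensorProduct

set_option linter.style.haveILetI false

noncomputable section

namespace Groth.Agent.CentLift19

open DSPtsLib (theta theta_left theta_comp theta_mul theta_bijective exists_eq_pt)
open TwHom19 (Dmap)

/-- A monoid algebra over a field which is finite and étale comes from a group of invertible order. -/
theorem finite_and_card_ne_zero {K : Type u} [Field K] {M : Type} [AddCommGroup M]
    [Module.Finite K (MonoidAlgebra K (Multiplicative M))] [_root_.IsReduced (MonoidAlgebra K (Multiplicative M))] :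
    Finite M ∧ (Nat.card M : K) ≠ 0 := by
  haveI : Finite (Multiplicative M) := by
    exact Module.Finite.finite_basis (MonoidAlgebra.basis (Multiplicative M) K)
  haveI : Finite M := Finite.of_equiv (Multiplicative M) Multiplicative.toAdd
  refine ⟨‹_›, fun h => ?_⟩
  haveI := Fintype.ofFinite M
  rw [Nat.card_eq_fintype_card] at h
  obtain ⟨p, hp⟩ := CharP.exists K
  have hdvd : p ∣ Fintype.card M := (CharP.cast_eq_zero_iff K p _).1 h
  have hp' : p.Prime := by
    rcases CharP.char_is_prime_or_zero K p with h' | h'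
    · exact h'
    · subst h'
      exact absurd (Nat.eq_zero_of_zero_dvd hdvd) Fintype.card_ne_zero
  haveI := Fact.mk hp'
  haveI : CharP (MonoidAlgebra K (Multiplicative M)) p :=
    charP_of_injective_algebraMap (algebraMap K (MonoidAlgebra K (Multiplicative M))).injective p
  obtain ⟨m, hm⟩ := exists_prime_addOrderOf_dvd_card' (G := M) p (by rwa [Nat.card_eq_fintype_card])
  have h1 : (MonoidAlgebra.single (Multiplicative.ofAdd m) (1 : K) - 1) ^ p = 0 := by
    rw [sub_pow_char, MonoidAlgebra.single_pow, _root_.one_pow, _root_.one_pow, ← ofAdd_nsmul,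
      ← hm, addOrderOf_nsmul_eq_zero, ofAdd_zero, ← MonoidAlgebra.one_def, sub_self]
  have h2 := sub_eq_zero.1 (IsNilpotent.eq_zero ⟨_, h1⟩)
  rw [MonoidAlgebra.one_def] at h2
  have h3 : Multiplicative.ofAdd m = 1 :=
    MonoidAlgebra.of_injective (R := K) h2
  rw [ofAdd_eq_one] at h3
  rw [h3, addOrderOf_zero] at hm
  exact hp'.ne_one hm.symm

variable {S : Scheme.{u}}

/-- The spectrum of a monoid algebra over a base change. -/
theorem exists_iso_monoidAlgebra (R K : Type u) [CommRing R] [CommRing K] [Algebra R K] (M : Type) [CommMonoid M] :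
    ∃ iso : Spec (CommRingCat.of (MonoidAlgebra K M)) ≅
        pullback (Spec.map (CommRingCat.ofHom (algebraMap R (MonoidAlgebra R M))))
          (Spec.map (CommRingCat.ofHom (algebraMap R K))),
      iso.hom ≫ pullback.snd _ _ = Spec.map (CommRingCat.ofHom (algebraMap K (MonoidAlgebra K M))) := by
  let e : MonoidAlgebra R M ⊗[R] K ≃+* MonoidAlgebra K M :=
    (Algebra.TensorProduct.comm R (MonoidAlgebra R M) K).toRingEquiv.trans
      (MonoidAlgebra.scalarTensorEquiv R K).toRingEquiv
  refine ⟨Scheme.Spec.mapIso e.toCommRingCatIso.op ≪≫ (pullbackSpecIso R (MonoidAlgebra R M) K).symm, ?_⟩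
  show (Spec.map e.toCommRingCatIso.hom ≫ (pullbackSpecIso R (MonoidAlgebra R M) K).inv) ≫ pullback.snd _ _ = _
  rw [Category.assoc, pullbackSpecIso_inv_snd, ← Spec.map_comp]
  refine congrArg Spec.map (CommRingCat.hom_ext (RingHom.ext fun k => ?_))
  show (MonoidAlgebra.scalarTensorEquiv R K) (Algebra.TensorProduct.comm R (MonoidAlgebra R M) K (1 ⊗ₜ k)) = _
  rw [Algebra.TensorProduct.comm_tmul]
  exact (MonoidAlgebra.scalarTensorEquiv R K (M := M)).commutes k

/-- A finite étale diagonalisable group over a field has order invertible in the field. -/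
theorem finite_and_card_ne_zero_DS {K : Type u} [Field K] {M : Type} [AddCommGroup M]
    [IsFinite (Red.DS (Spec (CommRingCat.of K)) M).hom] [Etale (Red.DS (Spec (CommRingCat.of K)) M).hom] :
    Finite M ∧ (Nat.card M : K) ≠ 0 := by
  let t := IsTerminal.from specULiftZIsTerminal (Spec (CommRingCat.of K))
  letI : Algebra (ULift.{u} ℤ) K := (Spec.preimage t).hom.toAlgebra
  have ht : t = Spec.map (CommRingCat.ofHom (algebraMap (ULift.{u} ℤ) K)) :=
    specULiftZIsTerminal.hom_ext _ _
  obtain ⟨iso₀, hiso₀⟩ := exists_iso_monoidAlgebra (ULift.{u} ℤ) K (Multiplicative M)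
  have hd : (Red.diag (ULift.{u} ℤ) M).hom =
      Spec.map (CommRingCat.ofHom (algebraMap (ULift.{u} ℤ) (MonoidAlgebra (ULift.{u} ℤ) (Multiplicative M)))) :=
    specULiftZIsTerminal.hom_ext _ _
  let iso : Spec (CommRingCat.of (MonoidAlgebra K (Multiplicative M))) ≅
      (Red.DS (Spec (CommRingCat.of K)) M).left :=
    iso₀ ≪≫ pullback.congrHom hd.symm ht.symm
  have hiso : iso.hom ≫ (Red.DS (Spec (CommRingCat.of K)) M).hom =
      Spec.map (CommRingCat.ofHom (algebraMap K (MonoidAlgebra K (Multiplicative M)))) := by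
    rw [← hiso₀]
    show (iso₀.hom ≫ (pullback.congrHom hd.symm ht.symm).hom) ≫ pullback.snd _ _ = _
    rw [Category.assoc]
    congr 1
    exact (pullback.lift_snd _ _ _).trans (Category.comp_id _)
  haveI hf : IsFinite (Spec.map (CommRingCat.ofHom (algebraMap K (MonoidAlgebra K (Multiplicative M))))) := by
    rw [← hiso]; infer_instance
  haveI he' : Etale (Spec.map (CommRingCat.ofHom (algebraMap K (MonoidAlgebra K (Multiplicative M))))) := by
    rw [← hiso]; infer_instance
  haveI : Module.Finite K (MonoidAlgebra K (Multiplicative M)) :=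
    RingHom.finite_algebraMap.1 ((IsFinite.SpecMap_iff _).1 hf)
  haveI : Algebra.Etale K (MonoidAlgebra K (Multiplicative M)) :=
    RingHom.etale_algebraMap.1 ((HasRingHomProperty.Spec_iff (P := @Etale)).1 he')
  haveI : _root_.IsReduced (MonoidAlgebra K (Multiplicative M)) :=
    Algebra.FormallyUnramified.isReduced_of_field K _
  exact finite_and_card_ne_zero

theorem eq_one_of_mul_self {A : Type*} [Group A] {a : A} (h : a * a = a) : a = 1 :=
  mul_left_cancel (h.trans (_root_.mul_one a).symm)

/-- Being killed by an integer is invariant under isomorphism. -/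
theorem kill_of_iso {X Y : Over S} [GrpObj X] [GrpObj Y] (i : Grp.mk X ≅ Grp.mk Y) {n : ℕ}
    (h : (𝟙 Y ^ n : Y ⟶ Y) = 1) : (𝟙 X ^ n : X ⟶ X) = 1 := by
  let ζ := MultDefLib.overIso i
  haveI : IsMonHom ζ.hom := i.hom.hom.isMonHom_hom
  haveI : Mono ζ.hom := IsIso.mono_of_iso _
  rw [← cancel_mono ζ.hom, MonObj.pow_comp, MonObj.one_comp, Category.id_comp, pow_eq_comp, h, MonObj.comp_one]

/-- A diagonalisable group is killed by the order of its group of characters. -/
theorem id_pow_card_DS (X : Scheme.{u}) (M : Type) [AddCommGroup M] :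
    (𝟙 (Red.DS X M) ^ Nat.card M : Red.DS X M ⟶ Red.DS X M) = 1 := by
  have h0 : (Dmap X (0 : M →+ M) : Red.DS X M ⟶ Red.DS X M) = 1 := by
    have h := TwHom19.Dmap_add (X := X) (0 : M →+ M) 0
    rw [add_zero] at h
    exact eq_one_of_mul_self h
  have hid : (Dmap X (AddMonoidHom.id M) : Red.DS X M ⟶ Red.DS X M) = 𝟙 _ := by
    refine TwHom19.ext_affine fun B _ j z => ?_
    obtain ⟨c, rfl⟩ := exists_eq_pt j z
    rw [TwHom19.pt_Dmap, Category.comp_id]
    congr 1
    refine GrpSchLib.DiagActionRigid.coord_ext fun n => ?_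
    rw [GrpSchLib.SubgroupFactor.pull_single]
    rfl
  have hn : ∀ n : ℕ, (Dmap X (AddMonoidHom.id M) : Red.DS X M ⟶ Red.DS X M) ^ n =
      Dmap X (n • AddMonoidHom.id M) := by
    intro n
    induction n with
    | zero => rw [pow_zero, zero_nsmul, h0]
    | succ n ih => rw [pow_succ, ih, TwHom19.Dmap_add, succ_nsmul]
  rw [← hid, hn, ← h0]
  congr 1
  ext m
  simp

/-- A finite étale group of multiplicative type is killed near every point by an integer invertible there. -/
theorem exists_order {H : Over S} [GrpObj H] (hH : SGA3x.IsMultTypeFT H) [IsFinite H.hom] [Smooth H.hom] (s : S) :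
    ∃ (D : S.Opens) (n : ℕ), s ∈ D ∧ (∀ p ∈ D, (n : S.residueField p) ≠ 0) ∧
      ∀ (T : Over S) (x : T ⟶ H), Set.range T.hom.base ⊆ (D : Set S) → x ^ n = 1 := by
  haveI : Etale H.hom := UnramMisc.etale_of_smooth_of_locallyQuasiFinite H.hom
  obtain ⟨S', f, hflat, hsurj, hqc, hloc⟩ := hH
  obtain ⟨s', rfl⟩ := hsurj.surj s
  obtain ⟨U, hsU, M, _, -, ⟨i⟩⟩ := hloc s'
  let g : (U : Scheme.{u}) ⟶ S := U.ι ≫ f
  let u : (U : Scheme.{u}) := ⟨s', hsU⟩
  let K : Type u := (U : Scheme.{u}).residueField u
  let c : Spec (CommRingCat.of K) ⟶ (U : Scheme.{u}) := (U : Scheme.{u}).fromSpecResidueField u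
  haveI : IsFinite (Red.bc g H).hom := inferInstanceAs (IsFinite (pullback.snd H.hom g))
  haveI : Etale (Red.bc g H).hom := inferInstanceAs (Etale (pullback.snd H.hom g))
  obtain ⟨b⟩ := GrpSchLib.MultTypeBC.bc_iso c i
  obtain ⟨d⟩ := GrpSchLib.MultTypeBC.bc_DS c M
  let ε := MultDefLib.overIso (b ≪≫ d)
  haveI : IsFinite (Red.bc c (Red.bc g H)).hom := inferInstanceAs (IsFinite (pullback.snd (Red.bc g H).hom c))
  haveI : Etale (Red.bc c (Red.bc g H)).hom := inferInstanceAs (Etale (pullback.snd (Red.bc g H).hom c))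
  haveI : IsFinite (Red.DS (Spec (CommRingCat.of K)) M).hom := by
    rw [← Over.w ε.inv]; infer_instance
  haveI : Etale (Red.DS (Spec (CommRingCat.of K)) M).hom := by
    rw [← Over.w ε.inv]; infer_instance
  obtain ⟨hM, hcard⟩ := finite_and_card_ne_zero_DS (K := K) (M := M)
  let n := Nat.card M
  have hs : (n : S.residueField (f s')) ≠ 0 := fun h => by
    have h1 : (n : S.residueField (g u)) = 0 := h
    exact hcard (by rw [← map_natCast (g.residueFieldMap u).hom, h1, map_zero])
  -- the group is killed over `U`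
  have hkill : (𝟙 (Red.bc g H) ^ n : Red.bc g H ⟶ Red.bc g H) = 1 :=
    kill_of_iso i (id_pow_card_DS _ _)
  let π := theta g (𝟙 (Red.bc g H))
  have hπ : π ≫ (𝟙 H ^ n) = π ≫ (1 : H ⟶ H) := by
    rw [← pow_eq_comp, MonObj.comp_one]
    let θ : (Red.bc g H ⟶ Red.bc g H) →* ((Over.map g).obj (Red.bc g H) ⟶ H) :=
      MonoidHom.mk' (theta g) (theta_mul g)
    show θ (𝟙 _) ^ n = 1
    exact (_root_.map_pow θ _ n).symm.trans ((congrArg θ hkill).trans (map_one θ))
  let a : H.left ⟶ pullback H.hom H.hom :=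
    pullback.lift (𝟙 H ^ n : H ⟶ H).left (1 : H ⟶ H).left ((Over.w _).trans (Over.w _).symm)
  let p := pullback.fst a (pullback.diagonal H.hom)
  haveI : IsOpenImmersion p := inferInstanceAs (IsOpenImmersion (pullback.fst a (pullback.diagonal H.hom)))
  let D₀ : S.Opens := ⟨(H.hom.base '' (p.opensRange : Set H.left)ᶜ)ᶜ,
    (H.hom.isClosedMap _ p.opensRange.2.isClosed_compl).isOpen_compl⟩
  have hsD : f s' ∈ D₀ := by
    rintro ⟨x, hx, hxs⟩
    refine hx ?_
    obtain ⟨z, hz, -⟩ := Scheme.Pullback.exists_preimage_pullback (f := H.hom) (g := g) x u (hxs.trans rfl)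
    have hw : pullback.fst H.hom g ≫ a = (π ≫ (1 : H ⟶ H)).left ≫ pullback.diagonal H.hom := by
      apply pullback.hom_ext
      · rw [Category.assoc, Category.assoc, pullback.diagonal_fst, Category.comp_id]
        refine (congrArg (pullback.fst H.hom g ≫ ·) (pullback.lift_fst _ _ _)).trans ?_
        rw [← hπ]
        rfl
      · rw [Category.assoc, Category.assoc, pullback.diagonal_snd, Category.comp_id]
        exact congrArg (pullback.fst H.hom g ≫ ·) (pullback.lift_snd _ _ _)
    refine ⟨pullback.lift (pullback.fst H.hom g) (π ≫ (1 : H ⟶ H)).left hw z, ?_⟩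
    rw [← Scheme.Hom.comp_apply, pullback.lift_fst]
    exact hz
  let D₁ : S.Opens := S.basicOpen (U := ⊤) (n : Γ(S, ⊤))
  have hD₁ : ∀ q : S, q ∈ D₁ ↔ (n : S.residueField q) ≠ 0 := fun q => by
    rw [Scheme.mem_basicOpen_top, map_natCast, ← IsLocalRing.residue_ne_zero_iff_isUnit, map_natCast]
    exact Iff.rfl
  refine ⟨D₀ ⊓ D₁, n, ⟨hsD, (hD₁ _).2 hs⟩, fun q hq => (hD₁ q).1 hq.2, fun T x hT => ?_⟩
  have hr : Set.range x.left.base ⊆ Set.range p.base := by
    rintro _ ⟨t, rfl⟩
    by_contra hc
    refine (hT ⟨t, rfl⟩).1 ⟨x.left t, hc, ?_⟩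
    rw [← Scheme.Hom.comp_apply, Over.w x]
  let l := IsOpenImmersion.lift p x.left hr
  have hl : x.left ≫ a = (l ≫ pullback.snd a (pullback.diagonal H.hom)) ≫ pullback.diagonal H.hom := by
    rw [Category.assoc, ← pullback.condition, ← Category.assoc, IsOpenImmersion.lift_fac]
  have h1 := congrArg (· ≫ pullback.fst H.hom H.hom) hl
  have h2 := congrArg (· ≫ pullback.snd H.hom H.hom) hl
  simp only [a, Category.assoc, pullback.lift_fst, pullback.lift_snd, pullback.diagonal_fst,
    pullback.diagonal_snd, Category.comp_id] at h1 h2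
  rw [pow_eq_comp, show (1 : T ⟶ H) = x ≫ 1 from (MonObj.comp_one x).symm]
  exact Over.OverMorphism.ext (h1.trans h2.symm)

end Groth.Agent.CentLift19

end
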