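import Groth.Agent.CentLift19.Main
import Groth.Agent.HomAff19.Global
import Groth.Agent.GrpSchLib.MultTypeComm
import Groth.Agent.GrpSchLib.UnramifiedFibre
import Groth.Agent.FlatMisc.InfNbhd
import Groth.Agent.EtFound.Descent

/-!
# Central finite étale subgroups of multiplicative type along thickenings
-/

universe u

open CategoryTheory CategoryTheory.Limits MonoidalCategory CartesianMonoidalCategory MonObj GrpObj AlgebraicGeometry

set_option linter.style.haveILetI false

noncomputable section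

namespace Groth.Agent.CentLift19

open DSPtsLib (theta theta_bijective)

variable {S S₀ : Scheme.{u}} (q : S₀ ⟶ S)

/-- A group of multiplicative type and of finite type is affine. -/
theorem isAffineHom_multTypeFT {H : Over S} [GrpObj H] (hH : SGA3x.IsMultTypeFT H) : IsAffineHom H.hom := by
  obtain ⟨S', f, hflat, hsurj, hqc, hloc⟩ := hH
  choose O hO M hM hfg hiso using hloc
  have hcov : FpqcDescLib.Covers f :=
    FpqcDescLib.covers_of_hcov f ⟨S', f, 𝟙 _, Category.id_comp _, hsurj, hflat, hqc⟩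
  haveI := EtFound.fpqc_isAffineHom.{u}
  refine hcov.descends @IsAffineHom H.hom (pullback.snd H.hom f) (pullback.fst H.hom f)
    (IsPullback.of_hasPullback H.hom f).flip ?_
  refine IsZariskiLocalAtTarget.of_forall_exists_morphismRestrict fun s' => ⟨O s', hO s', ?_⟩
  obtain ⟨i⟩ := hiso s'
  haveI : IsAffineHom (Red.DS (O s' : Scheme.{u}) (M s')).hom :=
    MorphismProperty.pullback_snd (P := @IsAffineHom) _ _
      (haveI : IsAffine (Red.diag (ULift.{u} ℤ) (M s')).left := inferInstanceAs (IsAffine (Spec _))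
       isAffineHom_of_isAffine _)
  have H1 : IsPullback ((pullback.snd H.hom f ⁻¹ᵁ O s').ι ≫ pullback.fst H.hom f)
      (pullback.snd H.hom f ∣_ O s') H.hom ((O s').ι ≫ f) :=
    (isPullback_morphismRestrict _ _).flip.paste_horiz (IsPullback.of_hasPullback H.hom f)
  rw [← H1.isoPullback_hom_snd]
  haveI : IsIso i.hom.hom.hom.left :=
    ⟨i.inv.hom.hom.left, congrArg (fun h => h.hom.hom.left) i.hom_inv_id,
      congrArg (fun h => h.hom.hom.left) i.inv_hom_id⟩
  haveI : IsAffineHom (pullback.snd H.hom ((O s').ι ≫ f)) := by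
    have hw : i.hom.hom.hom.left ≫ (Red.DS (O s' : Scheme.{u}) (M s')).hom = pullback.snd H.hom ((O s').ι ≫ f) :=
      Over.w i.hom.hom.hom
    rw [← hw]
    infer_instance
  infer_instance

/-- Finiteness and étaleness of groups of multiplicative type are detected along thickenings. -/
theorem finite_etale_of_thick [IsClosedImmersion q] [Surjective q] {H : Over S} [GrpObj H]
    (hH : SGA3x.IsMultTypeFT H) [IsAffineHom H.hom] {H₀ : Over S₀} (e : Red.bc q H ≅ H₀)
    [IsFinite H₀.hom] [Etale H₀.hom] : IsFinite H.hom ∧ Etale H.hom := by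
  haveI : LocallyOfFinitePresentation H.hom := MultDefLib.lfp_multTypeFT hH
  haveI : Flat H.hom := HomAff19.flat_multTypeFT hH
  haveI hfin : IsFinite (pullback.snd H.hom q) := by
    show IsFinite (Red.bc q H).hom
    rw [← Over.w e.hom]; infer_instance
  haveI het : Etale (pullback.snd H.hom q) := by
    show Etale (Red.bc q H).hom
    rw [← Over.w e.hom]; infer_instance
  haveI : UniversallyClosed (pullback.fst H.hom q ≫ H.hom) := by
    rw [pullback.condition]; infer_instance
  haveI : UniversallyClosed H.hom := UniversallyClosed.of_comp_surjective (pullback.fst H.hom q) H.hom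
  haveI : IsIntegralHom H.hom := IsIntegralHom.iff_universallyClosed_and_isAffineHom.mpr ⟨inferInstance, inferInstance⟩
  haveI : IsFinite H.hom := (IsFinite.iff_isIntegralHom_and_locallyOfFiniteType _).mpr ⟨inferInstance, inferInstance⟩
  refine ⟨inferInstance, ?_⟩
  haveI : FormallyUnramified H.hom := GrpSchLib.formallyUnramified_of_fibres H.hom fun s => by
    obtain ⟨s₀, hs₀⟩ := q.surjective s
    subst hs₀
    obtain ⟨σ, hσ⟩ := FlatMisc.exists_lift_fromSpecResidueField q s₀
    obtain ⟨a⟩ := GrpSchLib.MultTypeBC.bc_bc σ q H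
    obtain ⟨b⟩ := GrpSchLib.MultTypeBC.bc_congr hσ H
    haveI : Etale (Red.bc σ (Red.bc q H)).hom := inferInstanceAs (Etale (pullback.snd (pullback.snd H.hom q) σ))
    let ε := MultDefLib.overIso (a ≪≫ b)
    haveI : Etale (Red.bc (S.fromSpecResidueField (q s₀)) H).hom := by
      rw [← Over.w ε.inv]; infer_instance
    exact inferInstanceAs (FormallyUnramified (Red.bc (S.fromSpecResidueField (q s₀)) H).hom)
  exact Etale.of_formallyUnramified_of_flat H.hom

variable {G : Over S} [GrpObj G] [Flat G.hom] [LocallyOfFinitePresentation G.hom] [IsClosedImmersion q] [Surjective q]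

set_option maxHeartbeats 800000 in
/-- Central finite étale subgroups of multiplicative type lift uniquely along thickenings, once the group lifts. -/
theorem exists_central_subgroup {H₀ : Over S₀} [GrpObj H₀] (j₀ : H₀ ⟶ Red.bc q G) [IsMonHom j₀] [Mono j₀]
    [IsFinite H₀.hom] [Smooth H₀.hom]
    (hc₀ : ∀ (X : Over S₀) (x : X ⟶ H₀) (g : X ⟶ Red.bc q G), (x ≫ j₀) * g = g * (x ≫ j₀))
    {H : Over S} [GrpObj H] (hH : SGA3x.IsMultTypeFT H) [IsAffineHom H.hom]
    (e : Grp.mk (Red.bc q H) ≅ Grp.mk H₀) :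
    ∃ j : H ⟶ G, IsMonHom j ∧ Mono j ∧
      (∃ e : Red.bc q H ≅ H₀, e.hom ≫ j₀ = (Over.pullback q).map j) ∧
      (∀ (X : Over S) (x : X ⟶ H) (g : X ⟶ G), (x ≫ j) * g = g * (x ≫ j)) ∧
      ∀ (H' : Over S) [GrpObj H'] (j' : H' ⟶ G) [IsMonHom j'], SGA3x.IsMultTypeFT H' → IsAffineHom H'.hom →
        (∃ e' : Red.bc q H' ≅ H₀, e'.hom ≫ j₀ = (Over.pullback q).map j') →
        ∃ φ : H' ≅ H, φ.hom ≫ j = j' := by
  haveI : Etale H₀.hom := UnramMisc.etale_of_smooth_of_locallyQuasiFinite H₀.hom
  let ε := MultDefLib.overIso e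
  haveI : IsMonHom ε.hom := e.hom.hom.isMonHom_hom
  haveI : IsMonHom ε.inv := e.inv.hom.isMonHom_hom
  obtain ⟨hHf, hHe⟩ := finite_etale_of_thick q hH ε
  haveI := hHf
  haveI := hHe
  haveI : Flat H.hom := HomAff19.flat_multTypeFT hH
  haveI : LocallyOfFinitePresentation H.hom := MultDefLib.lfp_multTypeFT hH
  obtain ⟨j, hj, hjb, hjc, hju⟩ := exists_central_lift (G := G) q (ε.hom ≫ j₀ : Red.bc q H ⟶ Red.bc q G)
    (fun s => exists_order hH s) (fun X x g => by rw [← Category.assoc]; exact hc₀ X _ g)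
  haveI := hj
  haveI hsurj : Surjective (inc₀ q H).left := by
    show Surjective ((𝟙 (Red.bc q H) : _ ⟶ _).left ≫ pullback.fst H.hom q)
    exact inferInstance
  have hmono : Mono j := by
    refine ⟨fun {T} a b hab => ?_⟩
    let T₀ : Over S := Over.mk (pullback.fst T.hom q ≫ T.hom)
    let eT : T₀ ⟶ T := Over.homMk (pullback.fst T.hom q) rfl
    haveI : Surjective eT.left := inferInstanceAs (Surjective (pullback.fst T.hom q))
    refine eq_of_unramified eT ?_
    let Y : Over S₀ := Over.mk (pullback.snd T.hom q)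
    let i : (Over.map q).obj Y ⟶ T := Over.homMk (pullback.fst T.hom q) pullback.condition
    let k : T₀ ⟶ (Over.map q).obj Y := Over.homMk (𝟙 _) ((Category.id_comp _).trans pullback.condition.symm)
    have hk : k ≫ i = eT := Over.OverMorphism.ext (Category.id_comp _)
    obtain ⟨a', ha⟩ := MultDefLib.theta_surjective q (i ≫ a)
    obtain ⟨b', hb⟩ := MultDefLib.theta_surjective q (i ≫ b)
    rw [← hk, Category.assoc, Category.assoc, ← ha, ← hb]
    congr 2
    rw [← cancel_mono (ε.hom ≫ j₀)]
    apply (theta_bijective q).1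
    rw [← hjb, MultLift19.theta_map, MultLift19.theta_map, ha, hb, Category.assoc, Category.assoc, hab]
  refine ⟨j, hj, hmono, ⟨ε, hjb.symm⟩, hjc, fun H' _ j' hj' hH' haff he' => ?_⟩
  obtain ⟨e', he'⟩ := he'
  haveI := haff
  obtain ⟨hHf', hHe'⟩ := finite_etale_of_thick q hH' e'
  haveI := hHf'
  haveI := hHe'
  haveI := hj'
  haveI : Flat H'.hom := HomAff19.flat_multTypeFT hH'
  haveI : LocallyOfFinitePresentation H'.hom := MultDefLib.lfp_multTypeFT hH'
  haveI : IsMonHom e'.hom := MultLift19.isMonHom_of_mul _ fun X a b => by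
    rw [← cancel_mono j₀, Category.assoc, he', MonObj.mul_comp, MonObj.mul_comp, Category.assoc, Category.assoc, he']
  haveI : IsMonHom e'.inv := MultLift19.isMonHom_of_mul _ fun X a b => by
    rw [← cancel_mono e'.hom, MonObj.mul_comp]
  obtain ⟨φ, hφ, hφb, -, -⟩ := exists_central_lift (G := H) q (e'.hom ≫ ε.inv) (fun s => exists_order hH' s)
    (fun X x g => (theta_bijective q).1 (by
      rw [DSPtsLib.theta_mul, DSPtsLib.theta_mul]
      exact GrpSchLib.MultTypeComm.points_comm hH _ _))
  obtain ⟨ψ, hψ, hψb, -, -⟩ := exists_central_lift (G := H') q (ε.hom ≫ e'.inv) (fun s => exists_order hH s)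
    (fun X x g => (theta_bijective q).1 (by
      rw [DSPtsLib.theta_mul, DSPtsLib.theta_mul]
      exact GrpSchLib.MultTypeComm.points_comm hH' _ _))
  haveI := hφ
  haveI := hψ
  obtain ⟨i₁, -, -, -, hu₁⟩ := exists_central_lift (G := H') q (𝟙 (Red.bc q H')) (fun s => exists_order hH' s)
    (fun X x g => (theta_bijective q).1 (by
      rw [DSPtsLib.theta_mul, DSPtsLib.theta_mul]
      exact GrpSchLib.MultTypeComm.points_comm hH' _ _))
  obtain ⟨i₂, -, -, -, hu₂⟩ := exists_central_lift (G := H) q (𝟙 (Red.bc q H)) (fun s => exists_order hH s)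
    (fun X x g => (theta_bijective q).1 (by
      rw [DSPtsLib.theta_mul, DSPtsLib.theta_mul]
      exact GrpSchLib.MultTypeComm.points_comm hH _ _))
  have h1 : φ ≫ ψ = 𝟙 H' := (hu₁ _ inferInstance (by
      rw [Functor.map_comp, hφb, hψb, Category.assoc, Iso.inv_hom_id_assoc, Iso.hom_inv_id])).trans
    (hu₁ _ inferInstance (CategoryTheory.Functor.map_id _ _)).symm
  have h2 : ψ ≫ φ = 𝟙 H := (hu₂ _ inferInstance (by
      rw [Functor.map_comp, hφb, hψb, Category.assoc, Iso.inv_hom_id_assoc, Iso.hom_inv_id])).trans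
    (hu₂ _ inferInstance (CategoryTheory.Functor.map_id _ _)).symm
  obtain ⟨i₃, -, -, -, hu₃⟩ := exists_central_lift (G := G) q (e'.hom ≫ j₀) (fun s => exists_order hH' s)
    (fun X x g => by rw [← Category.assoc]; exact hc₀ X _ g)
  refine ⟨⟨φ, ψ, h1, h2⟩, (hu₃ _ inferInstance ?_).trans (hu₃ _ inferInstance he'.symm).symm⟩
  rw [Functor.map_comp, hφb, hjb, Category.assoc, Iso.inv_hom_id_assoc]

end Groth.Agent.CentLift19

end
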