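import Groth.Agent.CentLift19.Nil
import Groth.Agent.CentLift19.Central

/-!
# Central torsion points do not see surjective closed immersions
-/

universe u

open CategoryTheory CategoryTheory.Limits MonoidalCategory CartesianMonoidalCategory MonObj GrpObj AlgebraicGeometry

set_option linter.style.haveILetI false

noncomputable section

namespace Groth.Agent.CentLift19

open GrpSchLib.Loci

variable {S : Scheme.{u}} {X₀ X G : Over S} [GrpObj G]

/-- `n` is invertible at every point. -/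
def InvAt (n : ℕ) (T : Scheme.{u}) : Prop := ∀ x : T, (n : T.residueField x) ≠ 0

theorem InvAt.comap {n : ℕ} {T T' : Scheme.{u}} (h : InvAt n T) (f : T' ⟶ T) : InvAt n T' := fun x hx =>
  h (f x) ((f.residueFieldMap x).hom.injective (by rw [map_natCast, map_zero, hx]))

theorem etale_restrict_etLoc (n : ℕ) : Etale ((etLoc G n).ι ≫ (𝟙 G ^ n : G ⟶ G).left) := by
  refine of_forall_mem @Etale _ fun x => ?_
  obtain ⟨U, hxU, hU⟩ := x.2
  refine ⟨(etLoc G n).ι ⁻¹ᵁ U, hxU, ?_⟩
  rw [← morphismRestrict_ι_assoc]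
  haveI := hU
  exact inferInstanceAs (Etale (((etLoc G n).ι ∣_ U) ≫ U.ι ≫ (𝟙 G ^ n : G ⟶ G).left))

/-- The torsion points in the étale locus of the power map. -/
def torsEt (G : Over S) [GrpObj G] (n : ℕ) : Over S :=
  Over.mk (pullback.snd ((etLoc G n).ι ≫ (𝟙 G ^ n : G ⟶ G).left) η[G].left : _ ⟶ S)

instance etale_torsEt (n : ℕ) : Etale (torsEt G n).hom := by
  haveI := etale_restrict_etLoc (G := G) n
  exact MorphismProperty.pullback_snd (P := @Etale) _ _ ‹_›

theorem one_left {T : Over S} : (1 : T ⟶ G).left = T.hom ≫ η[G].left := rfl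

theorem pow_eq_comp {T : Over S} (a : T ⟶ G) (n : ℕ) : a ^ n = a ≫ (𝟙 G ^ n) := by
  rw [MonObj.comp_pow, Category.comp_id]

/-- The inclusion of the torsion points. -/
def torsι (G : Over S) [GrpObj G] (n : ℕ) : torsEt G n ⟶ G :=
  Over.homMk (pullback.fst ((etLoc G n).ι ≫ (𝟙 G ^ n : G ⟶ G).left) η[G].left ≫ (etLoc G n).ι) (by
    have h1 : η[G].left ≫ G.hom = 𝟙 S := Over.w η[G]
    show _ = pullback.snd ((etLoc G n).ι ≫ (𝟙 G ^ n : G ⟶ G).left) η[G].left
    refine Eq.trans ?_ (((congrArg (· ≫ G.hom) (pullback.condition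
      (f := (etLoc G n).ι ≫ (𝟙 G ^ n : G ⟶ G).left) (g := η[G].left))).trans (Category.assoc _ _ _)).trans
      ((congrArg (pullback.snd _ _ ≫ ·) h1).trans (Category.comp_id _)))
    simp only [Category.assoc, Over.w]
    rfl)

theorem torsι_pow (n : ℕ) : torsι G n ^ n = 1 := by
  rw [pow_eq_comp]
  refine Over.OverMorphism.ext ?_
  rw [one_left]
  show (pullback.fst ((etLoc G n).ι ≫ (𝟙 G ^ n : G ⟶ G).left) η[G].left ≫ (etLoc G n).ι) ≫ _ = _
  rw [Category.assoc]
  exact pullback.condition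

theorem exists_torsEt {n : ℕ} (a : X ⟶ G) (ha : a ^ n = 1) (hV : ∀ x : X.left, a.left x ∈ etLoc G n) :
    ∃ b : X ⟶ torsEt G n, b ≫ torsι G n = a := by
  have hr : Set.range a.left.base ⊆ Set.range (etLoc G n).ι.base := by
    rw [Scheme.Opens.range_ι]
    rintro _ ⟨x, rfl⟩
    exact hV x
  let a' := IsOpenImmersion.lift (etLoc G n).ι a.left hr
  have hw : a' ≫ (etLoc G n).ι ≫ (𝟙 G ^ n : G ⟶ G).left = X.hom ≫ η[G].left := by
    rw [← Category.assoc, IsOpenImmersion.lift_fac, ← Over.comp_left, ← pow_eq_comp, ha, one_left]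
  refine ⟨Over.homMk (pullback.lift a' X.hom hw) (pullback.lift_snd _ _ _), Over.OverMorphism.ext ?_⟩
  show pullback.lift a' X.hom hw ≫ pullback.fst _ _ ≫ _ = _
  rw [pullback.lift_fst_assoc, IsOpenImmersion.lift_fac]

variable [Flat G.hom] [LocallyOfFinitePresentation G.hom] (e : X₀ ⟶ X) [Surjective e.left]

theorem mem_etLoc_of_thick {n : ℕ} (hn : InvAt n X₀.left) {a : X ⟶ G} (ha : Cen (e ≫ a)) (x : X.left) :
    a.left x ∈ etLoc G n := by
  obtain ⟨x₀, rfl⟩ := e.left.surjective x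
  rw [← Scheme.Hom.comp_apply, ← Over.comp_left]
  exact mem_etLoc ha x₀ (hn x₀)

/-- Central torsion points are determined by their restriction along a surjection. -/
theorem eq_of_thick {n : ℕ} (hn : InvAt n X₀.left) {a b : X ⟶ G} (ha : a ^ n = 1) (hb : b ^ n = 1)
    (h : e ≫ a = e ≫ b) (hc : Cen (e ≫ a)) : a = b := by
  obtain ⟨a', ha'⟩ := exists_torsEt a ha (mem_etLoc_of_thick e hn hc)
  obtain ⟨b', hb'⟩ := exists_torsEt b hb (mem_etLoc_of_thick e hn (h ▸ hc))
  haveI : Mono (torsι G n) := by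
    refine ⟨fun {Z} p q hpq => Over.OverMorphism.ext (pullback.hom_ext ?_ ?_)⟩
    · have h1 : (p.left ≫ pullback.fst _ _) ≫ (etLoc G n).ι = (q.left ≫ pullback.fst _ _) ≫ (etLoc G n).ι := by
        rw [Category.assoc, Category.assoc]
        exact congrArg CommaMorphism.left hpq
      exact (cancel_mono _).1 h1
    · exact (Over.w p).trans (Over.w q).symm
  rw [← ha', ← hb', eq_of_unramified e (a := a') (b := b')
    ((cancel_mono (torsι G n)).1 (by rw [Category.assoc, Category.assoc, ha', hb', h]))]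

/-- Central torsion points extend along surjective closed immersions. -/
theorem exists_of_thick [IsClosedImmersion e.left] {n : ℕ} (hn : InvAt n X₀.left) {a₀ : X₀ ⟶ G}
    (ha : a₀ ^ n = 1) (hc : Cen a₀) : ∃ a : X ⟶ G, a ^ n = 1 ∧ e ≫ a = a₀ := by
  obtain ⟨b₀, hb₀⟩ := exists_torsEt a₀ ha fun x => mem_etLoc hc x (hn x)
  obtain ⟨b, hb⟩ := exists_lift e b₀
  refine ⟨b ≫ torsι G n, ?_, by rw [← Category.assoc, hb, hb₀]⟩
  rw [← MonObj.comp_pow, torsι_pow, MonObj.comp_one]

/-- A torsion point with central restriction is central. -/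
theorem cen_of_thick {n : ℕ} (hn : InvAt n X₀.left) {a : X ⟶ G} (ha : a ^ n = 1) (hc : Cen (e ≫ a)) : Cen a := by
  intro T t g
  let T₀ : Over S := Over.mk (pullback.fst t.left e.left ≫ T.hom)
  let eT : T₀ ⟶ T := Over.homMk (pullback.fst t.left e.left) rfl
  let t₀ : T₀ ⟶ X₀ := Over.homMk (pullback.snd t.left e.left) (by
    show _ = pullback.fst t.left e.left ≫ T.hom
    rw [← Over.w e, ← pullback.condition_assoc, Over.w t])
  haveI : Surjective eT.left := inferInstanceAs (Surjective (pullback.fst t.left e.left))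
  have he : eT ≫ t = t₀ ≫ e := Over.OverMorphism.ext pullback.condition
  have h1 : eT ≫ (t ≫ a) = t₀ ≫ e ≫ a := by rw [← Category.assoc, he, Category.assoc]
  have h2 : (t ≫ a) ^ n = 1 := by rw [← MonObj.comp_pow, ha, MonObj.comp_one]
  have h3 : t ≫ a = g * (t ≫ a) * g⁻¹ := by
    refine eq_of_thick eT (hn.comap t₀.left) h2 ?_ ?_ (h1 ▸ hc.comp t₀)
    · rw [conj_pow, h2, _root_.mul_one, mul_inv_cancel]
    · rw [MonObj.comp_mul, MonObj.comp_mul, GrpObj.comp_inv, h1, eq_mul_inv_iff_mul_eq]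
      exact hc _ t₀ _
  exact eq_mul_inv_iff_mul_eq.1 h3

end Groth.Agent.CentLift19

end
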